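import Groth.Prelude.Def_SheafNL
import Groth.Agent.Lib.CI2.NLPerf
import Mathlib

/-! # The naive cotangent complex along formally etale lifts -/

set_option autoImplicit false
set_option linter.style.haveILetI false
set_option maxHeartbeats 1000000
universe u

open CategoryTheory CategoryTheory.Limits TensorProduct Algebra

namespace Groth.Agent.NLEtale28

theorem quasiIso_of_homotopy {S : Type u} [CommRing S] {K L : CochainComplex (ModuleCat.{u} S) ℤ} (f g : K ⟶ L)
    (h : Homotopy f g) [QuasiIso g] : QuasiIso f := by
  rw [quasiIso_iff]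
  intro i
  rw [quasiIsoAt_iff_isIso_homologyMap, h.homologyMap_eq i, ← quasiIsoAt_iff_isIso_homologyMap]
  exact (quasiIso_iff g).1 inferInstance i

theorem quasiIso_twoMap_of_homotopyEquiv {S : Type u} [CommRing S] {M N M' N' : Type u}
    [AddCommGroup M] [Module S M] [AddCommGroup N] [Module S N]
    [AddCommGroup M'] [Module S M'] [AddCommGroup N'] [Module S N'] (f : M →ₗ[S] N) (f' : M' →ₗ[S] N')
    (a : M →ₗ[S] M') (b : N →ₗ[S] N') (w : ModuleCat.ofHom a ≫ ModuleCat.ofHom f' = ModuleCat.ofHom f ≫ ModuleCat.ofHom b)
    (a' : M' →ₗ[S] M) (b' : N' →ₗ[S] N) (w' : ∀ x, f (a' x) = b' (f' x))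
    (h : N →ₗ[S] M) (ha : ∀ x, a' (a x) = h (f x) + x) (hb : ∀ y, b' (b y) = f (h y) + y)
    (h' : N' →ₗ[S] M') (ha' : ∀ x, a (a' x) = h' (f' x) + x) (hb' : ∀ y, b (b' y) = f' (h' y) + y) :
    QuasiIso (CI2.twoMap (ModuleCat.ofHom f) (ModuleCat.ofHom f') (ModuleCat.ofHom a) (ModuleCat.ofHom b) w) := by
  have w'' : ModuleCat.ofHom a' ≫ ModuleCat.ofHom f = ModuleCat.ofHom f' ≫ ModuleCat.ofHom b' :=
    ModuleCat.hom_ext (LinearMap.ext w')
  let e : HomotopyEquiv (CI2.two (ModuleCat.ofHom f)) (CI2.two (ModuleCat.ofHom f')) :=
    { hom := CI2.twoMap _ _ _ _ w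
      inv := CI2.twoMap _ _ _ _ w''
      homotopyHomInvId := ((Homotopy.ofEq (CI2.twoMap_comp _ _ _ _ _ w _ _ w'')).trans
        (CI2.twoHomotopy _ _ _ _ _ _ _ (by simp) (ModuleCat.ofHom h) (ModuleCat.hom_ext (LinearMap.ext ha))
          (ModuleCat.hom_ext (LinearMap.ext hb)))).trans (Homotopy.ofEq (CI2.twoMap_id _))
      homotopyInvHomId := ((Homotopy.ofEq (CI2.twoMap_comp _ _ _ _ _ w'' _ _ w)).trans
        (CI2.twoHomotopy _ _ _ _ _ _ _ (by simp) (ModuleCat.ofHom h') (ModuleCat.hom_ext (LinearMap.ext ha'))
          (ModuleCat.hom_ext (LinearMap.ext hb')))).trans (Homotopy.ofEq (CI2.twoMap_id _)) }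
  exact (HomologicalComplex.mem_quasiIso_iff _).1 (homotopyEquivalences_le_quasiIso _ _ _ ⟨e, rfl⟩)

/-- A map of two term complexes with bijective components is an isomorphism. -/
theorem isIso_twoMap {S : Type u} [CommRing S] {M N M' N' : ModuleCat.{u} S} (f : M ⟶ N) (f' : M' ⟶ N')
    (a : M ⟶ M') (b : N ⟶ N') (w : a ≫ f' = f ≫ b) [IsIso a] [IsIso b] : IsIso (CI2.twoMap f f' a b w) := by
  refine ⟨CI2.twoMap f' f (inv a) (inv b) ?_, ?_, ?_⟩
  · rw [IsIso.inv_comp_eq, ← Category.assoc, IsIso.eq_comp_inv, w]
  · rw [CI2.twoMap_comp]; simp [CI2.twoMap_id]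
  · rw [CI2.twoMap_comp]; simp [CI2.twoMap_id]

theorem isIso_ofHom {S : Type u} [CommRing S] {M N : Type u} [AddCommGroup M] [Module S M] [AddCommGroup N] [Module S N]
    (f : M →ₗ[S] N) (hf : Function.Bijective f) : IsIso (ModuleCat.ofHom f) :=
  (ConcreteCategory.isIso_iff_bijective (ModuleCat.ofHom f)).2 hf

theorem mvPoly_smooth (R S : Type u) [CommRing R] [CommRing S] [Algebra R S] :
    FormallySmooth R (Generators.self R S).toExtension.Ring :=
  inferInstanceAs (FormallySmooth R (MvPolynomial S R))

variable {R S R' S' : Type u} [CommRing R] [CommRing S] [Algebra R S] [CommRing R'] [CommRing S'] [Algebra R' S']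
  [Algebra R R'] [Algebra S S'] [Algebra R S'] [IsScalarTower R R' S'] [IsScalarTower R S S']

/-- The chain map of a square as a map of two term complexes. -/
theorem bcMap_eq {P : Extension.{u} R S} {P' : Extension.{u} R' S'} (f : P.Hom P')
    (w : ModuleCat.ofHom (LinearMap.liftBaseChange S' (Extension.Cotangent.map f)) ≫
      ModuleCat.ofHom P'.cotangentComplex = ModuleCat.ofHom (P.cotangentComplex.baseChange S') ≫
      ModuleCat.ofHom (LinearMap.liftBaseChange S' (Extension.CotangentSpace.map f))) :
    NLCx.bcMap f = CI2.twoMap (ModuleCat.ofHom (P.cotangentComplex.baseChange S')) (ModuleCat.ofHom P'.cotangentComplex)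
      (ModuleCat.ofHom (LinearMap.liftBaseChange S' (Extension.Cotangent.map f)))
      (ModuleCat.ofHom (LinearMap.liftBaseChange S' (Extension.CotangentSpace.map f))) w := rfl

theorem bc_comm {P : Extension.{u} R S} {P' : Extension.{u} R' S'} (f : P.Hom P') :
    ModuleCat.ofHom (LinearMap.liftBaseChange S' (Extension.Cotangent.map f)) ≫
      ModuleCat.ofHom P'.cotangentComplex = ModuleCat.ofHom (P.cotangentComplex.baseChange S') ≫
      ModuleCat.ofHom (LinearMap.liftBaseChange S' (Extension.CotangentSpace.map f)) := by
  ext x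
  simpa using (Extension.CotangentSpace.map_cotangentComplex f x).symm

/-- The chain map, between two term complexes. -/
noncomputable abbrev bc {P : Extension.{u} R S} {P' : Extension.{u} R' S'} (f : P.Hom P') :
    CI2.two (ModuleCat.ofHom (P.cotangentComplex.baseChange S')) ⟶ CI2.two (ModuleCat.ofHom P'.cotangentComplex) :=
  CI2.twoMap (ModuleCat.ofHom (P.cotangentComplex.baseChange S')) (ModuleCat.ofHom P'.cotangentComplex)
      (ModuleCat.ofHom (LinearMap.liftBaseChange S' (Extension.Cotangent.map f)))
      (ModuleCat.ofHom (LinearMap.liftBaseChange S' (Extension.CotangentSpace.map f))) (bc_comm f)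

/-- Replacing the target extension along a map with bijective components. -/
theorem quasiIso_bcMap {P : Extension.{u} R S} {P' Q P'' : Extension.{u} R' S'} (f : P.Hom P') (g : P.Hom Q)
    (t : P'.Hom P'') (p : Q.Hom P'') (q : P''.Hom Q)
    (hg₁ : Function.Bijective (LinearMap.liftBaseChange S' (Extension.Cotangent.map g)))
    (hg₂ : Function.Bijective (LinearMap.liftBaseChange S' (Extension.CotangentSpace.map g)))
    (ht₁ : Function.Bijective (Extension.Cotangent.map t)) (ht₂ : Function.Bijective (Extension.CotangentSpace.map t)) :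
    QuasiIso (NLCx.bcMap f) := by
  have wt : ModuleCat.ofHom (Extension.Cotangent.map t) ≫ ModuleCat.ofHom P''.cotangentComplex =
      ModuleCat.ofHom P'.cotangentComplex ≫ ModuleCat.ofHom (Extension.CotangentSpace.map t) :=
    ModuleCat.hom_ext (LinearMap.ext fun x => (Extension.CotangentSpace.map_cotangentComplex t x).symm)
  have wp : ModuleCat.ofHom (Extension.Cotangent.map p) ≫ ModuleCat.ofHom P''.cotangentComplex =
      ModuleCat.ofHom Q.cotangentComplex ≫ ModuleCat.ofHom (Extension.CotangentSpace.map p) :=
    ModuleCat.hom_ext (LinearMap.ext fun x => (Extension.CotangentSpace.map_cotangentComplex p x).symm)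
  haveI := isIso_ofHom _ hg₁
  haveI := isIso_ofHom _ hg₂
  haveI := isIso_ofHom _ ht₁
  haveI := isIso_ofHom _ ht₂
  change QuasiIso (bc f)
  haveI : IsIso (bc g) := isIso_twoMap _ _ _ _ _
  let T := CI2.twoMap _ _ _ _ wt
  haveI : IsIso T := isIso_twoMap _ _ _ _ _
  let M := CI2.twoMap _ _ _ _ wp
  haveI : QuasiIso M :=
    quasiIso_twoMap_of_homotopyEquiv Q.cotangentComplex P''.cotangentComplex (Extension.Cotangent.map p)
      (Extension.CotangentSpace.map p) wp (Extension.Cotangent.map q) (Extension.CotangentSpace.map q)
      (fun x => (Extension.CotangentSpace.map_cotangentComplex q x).symm)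
      ((q.comp p).sub (Extension.Hom.id Q)) (CI2.cot_homotopic R' S' p q) (CI2.cotSpace_homotopic R' S' p q)
      ((p.comp q).sub (Extension.Hom.id P'')) (CI2.cot_homotopic R' S' q p) (CI2.cotSpace_homotopic R' S' q p)
  have e1 : ∀ {Y : Extension.{u} R' S'} (k : P.Hom Y) (s : Y.Hom P'') (ws),
      bc k ≫ CI2.twoMap (ModuleCat.ofHom Y.cotangentComplex) (ModuleCat.ofHom P''.cotangentComplex)
        (ModuleCat.ofHom (Extension.Cotangent.map s)) (ModuleCat.ofHom (Extension.CotangentSpace.map s)) ws =
      bc (s.comp k) := fun {Y} k s ws => by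
    rw [bc, bc, CI2.twoMap_comp]
    congr 1
    · ext x
      simp [Extension.Cotangent.map_comp]
    · ext x
      simp [Extension.CotangentSpace.map_comp]
  suffices QuasiIso (bc (t.comp f)) by
    rw [← e1 f t wt] at this
    exact quasiIso_of_comp_right (bc f) T
  have hq : QuasiIso (bc (p.comp g)) := by
    rw [← e1 g p wp]; infer_instance
  let k := (t.comp f).sub (p.comp g)
  haveI := hq
  refine quasiIso_of_homotopy _ _ (CI2.twoHomotopy _ _ _ _ _ _ _ (bc_comm (p.comp g))
    (ModuleCat.ofHom (LinearMap.liftBaseChange S' k)) ?_ ?_)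
  · ext x
    have := LinearMap.congr_fun (Extension.Cotangent.map_sub_map (t.comp f) (p.comp g)) x
    simp only [LinearMap.sub_apply, LinearMap.comp_apply] at this
    simpa [k] using congrArg Extension.Cotangent.val (sub_eq_iff_eq_add.1 this)
  · ext x
    have := LinearMap.congr_fun (Extension.CotangentSpace.map_sub_map (t.comp f) (p.comp g)) x
    simpa [k] using sub_eq_iff_eq_add.1 this

theorem quasiIso_bcMapSelf_of_lift (T : Type u) [CommRing T]
    [Algebra (Generators.self R S).toExtension.Ring T] [Algebra R T] [IsScalarTower R (Generators.self R S).toExtension.Ring T]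
    [Algebra R' T] [IsScalarTower R R' T]
    [FormallyUnramified R R'] [FormallyEtale (Generators.self R S).toExtension.Ring T]
    [Module.Flat (Generators.self R S).toExtension.Ring T]
    (ψ : T →+* S') (hψ : Function.Surjective ψ) (hψR : ∀ r, ψ (algebraMap R' T r) = algebraMap R' S' r)
    (hcompat : ∀ x, ψ (algebraMap (Generators.self R S).toExtension.Ring T x) =
      algebraMap S S' (algebraMap (Generators.self R S).toExtension.Ring S x))
    (hker : RingHom.ker ψ = (Generators.self R S).toExtension.ker.map (algebraMap _ T)) :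
    QuasiIso (NLCx.bcMapSelf R S R' S') := by
  haveI : FormallySmooth R (Generators.self R S).toExtension.Ring := mvPoly_smooth R S
  haveI : FormallySmooth R T := FormallySmooth.comp R (Generators.self R S).toExtension.Ring T
  haveI : FormallySmooth R' T := FormallySmooth.of_restrictScalars R R' T
  haveI : FormallySmooth R' (Generators.self R' S').toExtension.Ring := mvPoly_smooth R' S'
  let ψA : T →ₐ[R] S' :=
    { ψ with
      commutes' := fun r => by
        show ψ _ = algebraMap R S' r
        rw [IsScalarTower.algebraMap_apply R R' T, hψR, ← IsScalarTower.algebraMap_apply] }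
  let ψ' : T →ₐ[R'] S' := { ψ with commutes' := hψR }
  let Q₀ : Extension.{u} R S' := .ofSurjective ψA hψ
  let Q : Extension.{u} R' S' := .ofSurjective ψ' hψ
  let g₀ : (Generators.self R S).toExtension.Hom Q₀ :=
    { toRingHom := algebraMap (Generators.self R S).toExtension.Ring T
      toRingHom_algebraMap := fun r => (IsScalarTower.algebraMap_apply R (Generators.self R S).toExtension.Ring T r).symm
      algebraMap_toRingHom := hcompat }
  let ι : Q₀.Hom Q :=
    { toRingHom := RingHom.id T
      toRingHom_algebraMap := fun r => IsScalarTower.algebraMap_apply R R' T r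
      algebraMap_toRingHom := fun x => rfl }
  let g : (Generators.self R S).toExtension.Hom Q := ι.comp g₀
  letI alg : Algebra (Generators.self R S).toExtension.Ring Q₀.Ring := (inferInstance : Algebra (Generators.self R S).toExtension.Ring T)
  have halg : algebraMap (Generators.self R S).toExtension.Ring Q₀.Ring = g₀.toRingHom := rfl
  have hH : Function.Bijective ((g₀.mapKer halg).liftBaseChange Q₀.Ring) := by
    constructor
    · rw [injective_iff_map_eq_zero]
      intro z hz
      have hc : (TensorProduct.rid (Generators.self R S).toExtension.Ring T).toLinearMap ∘ₗ (Submodule.subtype (Generators.self R S).toExtension.ker).lTensor T =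
          ((Submodule.subtype Q₀.ker).restrictScalars (Generators.self R S).toExtension.Ring) ∘ₗ ((g₀.mapKer halg).liftBaseChange Q₀.Ring).restrictScalars (Generators.self R S).toExtension.Ring := by
        refine TensorProduct.ext' fun t x => ?_
        show (x : (Generators.self R S).toExtension.Ring) • t = t * algebraMap (Generators.self R S).toExtension.Ring T x
        rw [Algebra.smul_def, mul_comm]
      have h := LinearMap.congr_fun hc z
      haveI : Module.Flat (Generators.self R S).toExtension.Ring Q₀.Ring := ‹Module.Flat (Generators.self R S).toExtension.Ring T›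
      refine Module.Flat.lTensor_preserves_injective_linearMap (M := T) _ (Submodule.subtype_injective (Generators.self R S).toExtension.ker)
        ((TensorProduct.rid (Generators.self R S).toExtension.Ring T).injective ?_)
      erw [map_zero]
      refine h.trans ?_
      show ((g₀.mapKer halg).liftBaseChange Q₀.Ring z : Q₀.Ring) = 0
      rw [hz]
      rfl
    · rintro ⟨x, hx⟩
      have hx' : x ∈ (Generators.self R S).toExtension.ker.map (algebraMap (Generators.self R S).toExtension.Ring T) := hker ▸ hx
      suffices ∀ hy : x ∈ Q₀.ker, ∃ z, (g₀.mapKer halg).liftBaseChange Q₀.Ring z = ⟨x, hy⟩ from this hx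
      rw [Ideal.map] at hx'
      clear hx
      induction hx' using Submodule.span_induction with
      | mem y hy =>
        intro hy'
        obtain ⟨w, hw, rfl⟩ := hy
        exact ⟨(1 : T) ⊗ₜ ⟨w, hw⟩, Subtype.ext (one_mul _)⟩
      | zero => intro _; exact ⟨0, by simp; rfl⟩
      | add y y' hy hy' ih ih' =>
        intro _
        have m1 : y ∈ Q₀.ker := show y ∈ RingHom.ker ψ from hker ▸ hy
        have m2 : y' ∈ Q₀.ker := show y' ∈ RingHom.ker ψ from hker ▸ hy'
        obtain ⟨z, hz⟩ := ih m1
        obtain ⟨z', hz'⟩ := ih' m2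
        exact ⟨z + z', by rw [map_add, hz, hz']; rfl⟩
      | smul c y hy ih =>
        intro _
        have m1 : y ∈ Q₀.ker := show y ∈ RingHom.ker ψ from hker ▸ hy
        obtain ⟨z, hz⟩ := ih m1
        exact ⟨(show Q₀.Ring from c) • z, by rw [map_smul, hz]; rfl⟩
  have hFE : g₀.toRingHom.FormallyEtale := RingHom.formallyEtale_algebraMap.2 ‹FormallyEtale (Generators.self R S).toExtension.Ring T›
  have hι₁ : Function.Bijective (Extension.Cotangent.map ι) := by
    constructor
    · rw [injective_iff_map_eq_zero]
      intro x hx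
      obtain ⟨x, rfl⟩ := Extension.Cotangent.mk_surjective x
      rw [Extension.Cotangent.map_mk] at hx
      have := congrArg Extension.Cotangent.val hx
      simp only [Extension.Cotangent.val_mk, Extension.Cotangent.val_zero, Ideal.toCotangent_eq_zero] at this
      refine Extension.Cotangent.ext ?_
      rw [Extension.Cotangent.val_mk, Extension.Cotangent.val_zero, Ideal.toCotangent_eq_zero]
      exact this
    · intro x
      obtain ⟨⟨x, hx⟩, rfl⟩ := Extension.Cotangent.mk_surjective x
      exact ⟨.mk ⟨x, hx⟩, rfl⟩
  have hι₂ : Function.Bijective (Extension.CotangentSpace.map ι) := by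
    have hbij : Function.Bijective (KaehlerDifferential.map R R' T T) := by
      refine ⟨?_, KaehlerDifferential.map_surjective R R' T⟩
      rw [← LinearMap.ker_eq_bot, (KaehlerDifferential.exact_mapBaseChange_map R R' T).linearMap_ker_eq]
      haveI : Subsingleton Ω[R'⁄R] := (formallyUnramified_iff R R').1 inferInstance
      exact LinearMap.range_eq_bot.2 (Subsingleton.elim _ _)
    letI : Algebra T S' := ψ.toAlgebra
    let e : Q₀.CotangentSpace ≃ₗ[S'] Q.CotangentSpace := (LinearEquiv.ofBijective _ hbij).baseChange T S' _ _
    have he : ∀ z, Extension.CotangentSpace.map ι z = e z := fun z => by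
      induction z using TensorProduct.induction_on with
      | zero => simp
      | tmul s w =>
        rw [Extension.CotangentSpace.map_tmul_eq_tmul_map]
        rfl
      | add a b ha hb => simp only [map_add, ha, hb]
    rw [show ⇑(Extension.CotangentSpace.map ι) = ⇑e from funext he]
    exact e.bijective
  have hg₁ : Function.Bijective (LinearMap.liftBaseChange S' (Extension.Cotangent.map g)) := by
    have : LinearMap.liftBaseChange S' (Extension.Cotangent.map g) =
        Extension.Cotangent.map ι ∘ₗ LinearMap.liftBaseChange S' (Extension.Cotangent.map g₀) := by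
      ext x; simp [g, Extension.Cotangent.map_comp]
    rw [this]
    exact hι₁.comp (Extension.tensorCotangent g₀ halg hH).bijective
  have hg₂ : Function.Bijective (LinearMap.liftBaseChange S' (Extension.CotangentSpace.map g)) := by
    have : LinearMap.liftBaseChange S' (Extension.CotangentSpace.map g) =
        Extension.CotangentSpace.map ι ∘ₗ LinearMap.liftBaseChange S' (Extension.CotangentSpace.map g₀) := by
      ext x; simp [g, Extension.CotangentSpace.map_comp]
    rw [this]
    exact hι₂.comp (Extension.tensorCotangentSpaceOfFormallyEtale g₀ hFE).bijective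
  haveI : FormallySmooth R' Q.Ring := ‹FormallySmooth R' T›
  have b1 : Function.Bijective (LinearMap.liftBaseChange S' (Extension.Cotangent.map (Q.toInfinitesimal.comp g))) := by
    have : LinearMap.liftBaseChange S' (Extension.Cotangent.map (Q.toInfinitesimal.comp g)) =
        Extension.Cotangent.map Q.toInfinitesimal ∘ₗ LinearMap.liftBaseChange S' (Extension.Cotangent.map g) := by
      ext x; simp [Extension.Cotangent.map_comp]
    rw [this]
    exact (Extension.Cotangent.map_toInfinitesimal_bijective Q).comp hg₁
  have b2 : Function.Bijective (LinearMap.liftBaseChange S' (Extension.CotangentSpace.map (Q.toInfinitesimal.comp g))) := by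
    have : LinearMap.liftBaseChange S' (Extension.CotangentSpace.map (Q.toInfinitesimal.comp g)) =
        Extension.CotangentSpace.map Q.toInfinitesimal ∘ₗ LinearMap.liftBaseChange S' (Extension.CotangentSpace.map g) := by
      ext x; simp [Extension.CotangentSpace.map_comp]
    rw [this]
    exact (Extension.CotangentSpace.map_toInfinitesimal_bijective Q).comp hg₂
  exact quasiIso_bcMap _ (Q.toInfinitesimal.comp g) (Generators.self R' S').toExtension.toInfinitesimal
    (Extension.homInfinitesimal Q _) (Extension.homInfinitesimal _ Q) b1 b2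
    (Extension.Cotangent.map_toInfinitesimal_bijective _) (Extension.CotangentSpace.map_toInfinitesimal_bijective _)

end Groth.Agent.NLEtale28
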