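import Groth.Agent.Lib.NLEtale28.Pushout
import Groth.Agent.Lib.CI2.NLFlat
import Groth.Agent.Lib.DBaseChange.Value

/-! # Derived base change of a naive cotangent complex of tor amplitude `[-1, 0]` -/

set_option autoImplicit false
set_option linter.style.haveILetI false
universe u

open CategoryTheory CategoryTheory.Limits TensorProduct Algebra HomologicalComplex
attribute [local instance] HasDerivedCategory.standard

namespace Groth.Agent.NLEtale28

/-- Mapping a two term complex termwise. -/
theorem nonempty_map_two {A B : Type u} [CommRing A] [CommRing B]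
    (F : ModuleCat.{u} A ⥤ ModuleCat.{u} B) [F.Additive] {M N : ModuleCat.{u} A} (f : M ⟶ N)
    {M' N' : ModuleCat.{u} B} (f' : M' ⟶ N') (a : M' ≅ F.obj M) (b : N' ≅ F.obj N)
    (w : a.hom ≫ F.map f = f' ≫ b.hom) :
    Nonempty ((F.mapHomologicalComplex (ComplexShape.up ℤ)).obj (CI2.two f) ≅ CI2.two f') := by
  let K := (F.mapHomologicalComplex (ComplexShape.up ℤ)).obj (CI2.two f)
  let φ : CI2.two f' ⟶ K := mkHomFromDouble CI2.rel_m1 (by decide)
    (a.hom ≫ F.map (doubleXIso₀ f CI2.rel_m1).inv) (b.hom ≫ F.map (doubleXIso₁ f CI2.rel_m1 (by decide)).inv)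
    (by
      show (a.hom ≫ F.map _) ≫ F.map ((CI2.two f).d (-1) 0) = _
      rw [double_d f CI2.rel_m1 (by decide), Category.assoc, ← F.map_comp, Iso.inv_hom_id_assoc, F.map_comp,
        ← Category.assoc, w, Category.assoc]
      rfl)
    (fun k hk => by
      show _ ≫ F.map ((CI2.two f).d 0 k) = 0
      rw [double_d_eq_zero₀ f CI2.rel_m1 0 k (by decide), F.map_zero, comp_zero])
  have : ∀ i, IsIso (φ.f i) := fun i => by
    by_cases h0 : i = -1
    · subst h0
      simp only [φ, mkHomFromDouble_f₀]
      exact ((doubleXIso₀ f' CI2.rel_m1) ≪≫ a ≪≫ F.mapIso (doubleXIso₀ f CI2.rel_m1).symm).isIso_hom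
    · by_cases h1 : i = 0
      · subst h1
        simp only [φ, mkHomFromDouble_f₁]
        exact ((doubleXIso₁ f' CI2.rel_m1 (by decide)) ≪≫ b ≪≫ F.mapIso (doubleXIso₁ f CI2.rel_m1 (by decide)).symm).isIso_hom
      · exact ⟨0, (isZero_double_X f' CI2.rel_m1 i h0 h1).eq_of_src _ _,
          (F.map_isZero (isZero_double_X f CI2.rel_m1 i h0 h1)).eq_of_src _ _⟩
  haveI := HomologicalComplex.Hom.isIso_of_components φ
  exact ⟨(asIso φ).symm⟩

variable (A B A' B' : Type u) [CommRing A] [CommRing B] [CommRing A'] [CommRing B'] [Algebra A B] [Algebra A' B']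
  [Algebra A A'] [inst : Algebra B B'] [Algebra A B'] [IsScalarTower A A' B'] [IsScalarTower A B B']

theorem nonempty_ext_bcCx :
    Nonempty ((DBaseChange.extCx (algebraMap B B')).obj (LCI.NLcx A B) ≅
      NLCx.bcCx (Generators.self A B).toExtension B') := by
  have key : ∀ (φ : B →+* B'),
      letI := φ.toAlgebra
      Nonempty ((DBaseChange.extCx φ).obj (LCI.NLcx A B) ≅ NLCx.bcCx (Generators.self A B).toExtension B') :=
    fun φ => by
      letI := φ.toAlgebra
      let P := (Generators.self A B).toExtension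
      refine nonempty_map_two (ModuleCat.extendScalars.{u, u, u} φ) (ModuleCat.ofHom P.cotangentComplex)
        (ModuleCat.ofHom (P.cotangentComplex.baseChange B')) (Iso.refl _) (Iso.refl _) ?_
      refine ModuleCat.hom_ext (LinearMap.ext fun x => ?_)
      induction x using TensorProduct.induction_on with
      | zero => exact (map_zero _).trans (map_zero _).symm
      | tmul c m => rfl
      | add x y hx hy => exact ((map_add _ x y).trans (congrArg₂ (· + ·) hx hy)).trans (map_add _ x y).symm
  have hi : inst = (algebraMap B B').toAlgebra := Algebra.algebra_ext _ _ fun _ => rfl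
  have := key (algebraMap B B')
  clear key
  generalize algebraMap B B' = φ at hi this ⊢
  subst hi
  exact this

theorem nonempty_LBaseChange_NL [Algebra.IsPushout A A' B B'] [Module.Flat A B]
    (h : DRing.HasTorAmplitudeIn B (-1) 0 (LCI.NL A B)) [DRing.HasLBaseChange (algebraMap B B')] :
    Nonempty ((DRing.LBaseChange (algebraMap B B')).obj (LCI.NL A B) ≅ LCI.NL A' B') := by
  let P := (Generators.self A B).toExtension
  have hv : DRing.VanishesOutside (LCI.NLcx A B) (-1) 0 := CI2.vanishesOutside_two _
  haveI : Module.Free B P.CotangentSpace := Module.Free.of_basis (Generators.self A B).cotangentSpaceBasis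
  haveI : Module.Flat B ((LCI.NLcx A B).X (-1)) :=
    CI2.flat_of_torAmplitude hv (Module.Projective.of_equiv (doubleXIso₁ (ModuleCat.ofHom P.cotangentComplex)
      CI2.rel_m1 (by decide)).toLinearEquiv.symm) h
  haveI : (LCI.NLcx A B).IsStrictlyLE 0 :=
    (CochainComplex.isStrictlyLE_iff _ _).2 fun i hi => hv i (Or.inr hi)
  have hflat : ∀ i, Module.Flat B ((LCI.NLcx A B).X i) := fun i => by
    by_cases h0 : i = -1
    · subst h0; assumption
    · by_cases h1 : i = 0
      · subst h1
        exact Module.Flat.of_linearEquiv (doubleXIso₁ (ModuleCat.ofHom P.cotangentComplex)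
          CI2.rel_m1 (by decide)).toLinearEquiv
      · haveI := ModuleCat.subsingleton_of_isZero
          (isZero_double_X (ModuleCat.ofHom P.cotangentComplex) CI2.rel_m1 i h0 h1)
        exact (inferInstance : Module.Flat B ((CI2.two (ModuleCat.ofHom P.cotangentComplex)).X i))
  obtain ⟨e⟩ := nonempty_ext_bcCx A B B'
  haveI : QuasiIso (NLCx.bcMapSelf A B A' B') := quasiIso_bcMapSelf_of_flat
  haveI : IsIso (DerivedCategory.Q.map (NLCx.bcMapSelf A B A' B')) :=
    (DerivedCategory.isIso_Q_map_iff_quasiIso _ _).2 inferInstance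
  exact ⟨DBaseChange.valueIso _ _ (DBaseChange.adapted_of_flat _ 0 hflat) ≪≫ DerivedCategory.Q.mapIso e ≪≫
    @asIso _ _ _ _ (DerivedCategory.Q.map (NLCx.bcMapSelf A B A' B')) ((DerivedCategory.isIso_Q_map_iff_quasiIso _ _).2 quasiIso_bcMapSelf_of_flat)⟩

end Groth.Agent.NLEtale28
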