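import Groth.Agent.Lib.NLEtale28.Core
import Groth.Agent.Lib.HensH7.Local
import Groth.Agent.Lib.Hens.StrictBC

/-! # The naive cotangent complex of (strict) henselizations -/

set_option autoImplicit false
set_option linter.style.haveILetI false
set_option maxHeartbeats 1000000
universe u

open IsLocalRing Algebra

namespace Groth.Agent.NLEtale28

variable (A B : Type u) [CommRing A] [CommRing B] [IsLocalRing B] [Algebra A B]

/-- The polynomial ring on all elements. -/
noncomputable abbrev PR : Type u := (Generators.self A B).toExtension.Ring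

/-- The prime over the maximal ideal. -/
noncomputable abbrev pB : Ideal (PR A B) := (maximalIdeal B).comap (algebraMap (PR A B) B)

/-- The local ring of the polynomial ring. -/
noncomputable abbrev LP : Type u := Localization.AtPrime (pB A B)

/-- The surjection onto `B`. -/
noncomputable def piB : LP A B →+* B :=
  IsLocalization.lift (M := (pB A B).primeCompl) (g := algebraMap (PR A B) B)
    (fun s => by_contra fun h => s.2 h)

theorem piB_to (x : PR A B) : piB A B (algebraMap (PR A B) (LP A B) x) = algebraMap (PR A B) B x :=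
  IsLocalization.lift_eq _ x

theorem piB_surjective : Function.Surjective (piB A B) := fun b => by
  obtain ⟨x, rfl⟩ := (Generators.self A B).toExtension.algebraMap_surjective b
  exact ⟨algebraMap _ _ x, piB_to A B x⟩

instance piB_isLocalHom : IsLocalHom (piB A B) := IsLocalHom.of_surjective _ (piB_surjective A B)

theorem ker_piB : RingHom.ker (piB A B) =
    (Generators.self A B).toExtension.ker.map (algebraMap (PR A B) (LP A B)) := by
  refine le_antisymm (fun z hz => ?_) (Ideal.map_le_iff_le_comap.2 fun x hx => ?_)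
  · obtain ⟨x, s, rfl⟩ := IsLocalization.exists_mk'_eq (pB A B).primeCompl z
    have hx : algebraMap (PR A B) B x = 0 := by
      have h := congrArg (piB A B) (IsLocalization.mk'_spec (LP A B) x s)
      rw [map_mul, RingHom.mem_ker.1 hz, zero_mul, piB_to] at h
      exact h.symm
    exact (IsLocalization.mk'_mem_map_algebraMap_iff (pB A B).primeCompl (LP A B) _ x s).2
      ⟨1, Submonoid.one_mem _, by rw [one_mul]; exact hx⟩
  · show piB A B (algebraMap _ _ x) = 0
    rw [piB_to]; exact hx

variable {A B}
variable {A' B' : Type u} [CommRing A'] [CommRing B'] [Algebra A A'] [Algebra B B'] [Algebra A' B'] [Algebra A B']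
  [IsScalarTower A A' B'] [IsScalarTower A B B']

theorem quasiIso_of_local_lift (T : Type u) [CommRing T] [Algebra (LP A B) T] [Algebra.FormallyEtale (LP A B) T]
    [Module.Flat (LP A B) T] [FormallyUnramified A A']
    (φ : A' →+* T)
    (hφ : ∀ a, φ (algebraMap A A' a) = algebraMap (LP A B) T (algebraMap (PR A B) _ (algebraMap A (PR A B) a)))
    (ψ : T →+* B') (hψ : ∀ x, ψ (algebraMap (LP A B) T x) = algebraMap B B' (piB A B x))
    (hψφ : ∀ a', ψ (φ a') = algebraMap A' B' a')
    (h2 : B' →+* T ⧸ (RingHom.ker (piB A B)).map (algebraMap (LP A B) T))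
    (hl : ∀ x, h2 (ψ x) = Ideal.Quotient.mk _ x)
    (hr : ∀ y, ∃ x, h2 y = Ideal.Quotient.mk _ x ∧ ψ x = y) :
    QuasiIso (NLCx.bcMapSelf A B A' B') := by
  letI : Algebra (PR A B) T := ((algebraMap (LP A B) T).comp (algebraMap (PR A B) (LP A B))).toAlgebra
  haveI : IsScalarTower (PR A B) (LP A B) T := IsScalarTower.of_algebraMap_eq fun _ => rfl
  letI : Algebra A T := ((algebraMap (PR A B) T).comp (algebraMap A (PR A B))).toAlgebra
  haveI : IsScalarTower A (PR A B) T := IsScalarTower.of_algebraMap_eq fun _ => rfl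
  letI : Algebra A' T := φ.toAlgebra
  haveI : IsScalarTower A A' T := IsScalarTower.of_algebraMap_eq fun a => (hφ a).symm
  haveI : FormallyEtale (PR A B) (LP A B) := FormallyEtale.of_isLocalization (pB A B).primeCompl
  haveI : FormallyEtale (PR A B) T := FormallyEtale.comp (PR A B) (LP A B) T
  haveI : Module.Flat (PR A B) (LP A B) := IsLocalization.flat _ (pB A B).primeCompl
  haveI : Module.Flat (PR A B) T := Module.Flat.trans (PR A B) (LP A B) T
  refine quasiIso_bcMapSelf_of_lift T ψ (fun y => (hr y).imp fun x hx => hx.2) hψφ (fun x => ?_) ?_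
  · show ψ (algebraMap (LP A B) T (algebraMap _ _ x)) = _
    rw [hψ, piB_to]
  · rw [show algebraMap (PR A B) T = (algebraMap (LP A B) T).comp (algebraMap (PR A B) (LP A B)) from rfl,
      ← Ideal.map_map, ← ker_piB]
    refine le_antisymm (fun x hx => ?_) (Ideal.map_le_iff_le_comap.2 fun x hx => ?_)
    · rw [← Ideal.Quotient.eq_zero_iff_mem, ← hl, RingHom.mem_ker.1 hx, map_zero]
    · show ψ _ = 0
      rw [hψ, RingHom.mem_ker.1 hx, map_zero]

variable [IsLocalRing A] [IsLocalHom (algebraMap A B)] [IsLocalRing A'] [IsLocalRing B']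

theorem isLocalHom_toT (T : Type u) [CommRing T] [Algebra (LP A B) T] [IsLocalHom (algebraMap (LP A B) T)] :
    IsLocalHom ((algebraMap (LP A B) T).comp ((algebraMap (PR A B) (LP A B)).comp (algebraMap A (PR A B)))) := by
  refine ⟨fun a ha => ?_⟩
  have h1 := IsLocalHom.map_nonunit (f := algebraMap (LP A B) T) _ ha
  have h2 := h1.map (piB A B)
  rw [RingHom.comp_apply, piB_to, ← IsScalarTower.algebraMap_apply] at h2
  exact IsLocalHom.map_nonunit (f := algebraMap A B) a h2

/-- The map from `B` to the fibre of the lift. -/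
noncomputable def toFibre (T : Type u) [CommRing T] [Algebra (LP A B) T] :
    B →+* T ⧸ (RingHom.ker (piB A B)).map (algebraMap (LP A B) T) :=
  RingHom.liftOfSurjective (piB A B) (piB_surjective A B)
    ⟨(Ideal.Quotient.mk _).comp (algebraMap (LP A B) T), fun x hx =>
      Ideal.Quotient.eq_zero_iff_mem.2 (Ideal.mem_map_of_mem _ hx)⟩

theorem toFibre_pi (T : Type u) [CommRing T] [Algebra (LP A B) T] (x : LP A B) :
    toFibre (A := A) (B := B) T (piB A B x) = Ideal.Quotient.mk _ (algebraMap (LP A B) T x) :=
  RingHom.liftOfSurjective_comp_apply (f := piB A B) (piB_surjective A B)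
    ⟨(Ideal.Quotient.mk _).comp (algebraMap (LP A B) T), fun x hx =>
      Ideal.Quotient.eq_zero_iff_mem.2 (Ideal.mem_map_of_mem _ hx)⟩ x

theorem nontrivial_fibre (T : Type u) [CommRing T] [Algebra (LP A B) T] (ψ : T →+* B')
    (hψ : ∀ x, ψ (algebraMap (LP A B) T x) = algebraMap B B' (piB A B x)) :
    Nontrivial (T ⧸ (RingHom.ker (piB A B)).map (algebraMap (LP A B) T)) := by
  refine Ideal.Quotient.nontrivial_iff.2 fun h => one_ne_zero (α := B') ?_
  have hle : (RingHom.ker (piB A B)).map (algebraMap (LP A B) T) ≤ RingHom.ker ψ :=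
    Ideal.map_le_iff_le_comap.2 fun x hx => show ψ _ = 0 by rw [hψ, RingHom.mem_ker.1 hx, map_zero]
  rw [h] at hle
  rw [← map_one ψ]
  exact hle Submodule.mem_top

theorem quasiIso_henselization [IsLocalHom (algebraMap A A')] [Hensel.IsHenselization A A']
    [IsLocalHom (algebraMap B B')] [Hensel.IsHenselization B B'] : QuasiIso (NLCx.bcMapSelf A B A' B') := by
  haveI : HenselianLocalRing B' := Hensel.IsHenselization.henselian (R := B)
  let T := Hens.Hh (LP A B)
  haveI : FormallyEtale (LP A B) T := HensH7.formallyEtale_of_henselization (LP A B) T (Or.inl inferInstance)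
  haveI : Module.Flat (LP A B) T := Hens.henselization_flat (LP A B) T
  haveI : FormallyUnramified A A' :=
    haveI := HensH7.formallyEtale_of_henselization A A' (Or.inl inferInstance)
    inferInstance
  haveI : IsLocalHom ((algebraMap B B').comp (piB A B)) := inferInstance
  obtain ⟨ψ, hψ, -⟩ := Hensel.IsHenselization.universal (R := LP A B) (S := T) B' _ ‹IsLocalHom ((algebraMap B B').comp (piB A B))›
  have hψ' : ∀ x, ψ (algebraMap (LP A B) T x) = algebraMap B B' (piB A B x) := fun x => congr($hψ x)
  haveI := nontrivial_fibre T ψ hψ'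
  set J := (RingHom.ker (piB A B)).map (algebraMap (LP A B) T)
  haveI : IsLocalRing (T ⧸ J) := .of_surjective' (Ideal.Quotient.mk J) Ideal.Quotient.mk_surjective
  haveI : HenselianLocalRing (T ⧸ J) := Hens.henselianLocalRing_of_isIntegral T _
  haveI hmk : IsLocalHom (Ideal.Quotient.mk J) := IsLocalHom.of_surjective _ Ideal.Quotient.mk_surjective
  haveI hf2 : IsLocalHom (toFibre (A := A) (B := B) T) := ⟨fun b hb => by
    obtain ⟨x, rfl⟩ := piB_surjective A B b
    rw [toFibre_pi] at hb
    exact (IsLocalHom.map_nonunit (f := algebraMap (LP A B) T) x (IsLocalHom.map_nonunit (f := Ideal.Quotient.mk J) _ hb)).map _⟩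
  obtain ⟨h2, hh2, -⟩ := Hensel.IsHenselization.universal (R := B) (S := B') (T ⧸ J) _ hf2
  have hl : h2.comp ψ = Ideal.Quotient.mk J := by
    haveI : IsLocalHom ((Ideal.Quotient.mk J).comp (algebraMap (LP A B) T)) := inferInstance
    refine Hens.henselization_hom_ext (LP A B) T _ _ (RingHom.ext fun x => ?_)
    show h2 (ψ (algebraMap _ _ x)) = _
    rw [hψ', ← RingHom.comp_apply h2, hh2, toFibre_pi]
    rfl
  have hker : ∀ x ∈ J, ψ x = 0 := fun x hx => by
    have hle : J ≤ RingHom.ker ψ :=
      Ideal.map_le_iff_le_comap.2 fun x hx => show ψ _ = 0 by rw [hψ', RingHom.mem_ker.1 hx, map_zero]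
    exact hle hx
  have hr : (Ideal.Quotient.lift J ψ hker).comp h2 = RingHom.id B' := by
    haveI : IsLocalHom ((RingHom.id B').comp (algebraMap B B')) := inferInstance
    refine Hens.henselization_hom_ext B B' _ _ (RingHom.ext fun b => ?_)
    obtain ⟨x, rfl⟩ := piB_surjective A B b
    show Ideal.Quotient.lift J ψ hker (h2 (algebraMap _ _ _)) = _
    rw [← RingHom.comp_apply h2, hh2, toFibre_pi, Ideal.Quotient.lift_mk, hψ']
    rfl
  obtain ⟨φ, hφ, -⟩ := Hensel.IsHenselization.universal (R := A) (S := A') T _ (isLocalHom_toT (A := A) (B := B) T)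
  have hψφ : ψ.comp φ = algebraMap A' B' := by
    haveI : IsLocalHom ((algebraMap A' B').comp (algebraMap A A')) := by
      rw [← IsScalarTower.algebraMap_eq A A' B', IsScalarTower.algebraMap_eq A B B']; infer_instance
    refine Hens.henselization_hom_ext A A' _ _ (RingHom.ext fun a => ?_)
    show ψ (φ (algebraMap _ _ a)) = algebraMap A' B' (algebraMap A A' a)
    rw [← RingHom.comp_apply φ, hφ, RingHom.comp_apply, hψ', RingHom.comp_apply, piB_to,
      ← IsScalarTower.algebraMap_apply A (PR A B) B, ← IsScalarTower.algebraMap_apply A B B', ← IsScalarTower.algebraMap_apply]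
  refine quasiIso_of_local_lift T φ (fun a => congr($hφ a)) ψ hψ' (fun a' => congr($hψφ a')) h2 (fun x => congr($hl x))
    (fun y => ?_)
  obtain ⟨x, hx⟩ := Ideal.Quotient.mk_surjective (h2 y)
  refine ⟨x, hx.symm, ?_⟩
  have := congr($hr y)
  rw [RingHom.comp_apply, ← hx, Ideal.Quotient.lift_mk] at this
  exact this

theorem quasiIso_strictHenselization [IsLocalHom (algebraMap A A')] [Hensel.IsStrictHenselization A A']
    [IsLocalHom (algebraMap B B')] [Hensel.IsStrictHenselization B B'] : QuasiIso (NLCx.bcMapSelf A B A' B') := by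
  haveI : HenselianLocalRing B' := Hensel.IsStrictHenselization.henselian (R := B)
  have hsepB := Hensel.IsStrictHenselization.isSepClosure (R := B) (S := B')
  haveI : IsSepClosed (ResidueField B') := hsepB.1
  haveI : Algebra.IsSeparable (ResidueField B) (ResidueField B') := hsepB.2
  let T := Hens.Hsh (LP A B)
  haveI : FormallyEtale (LP A B) T := HensH7.formallyEtale_of_henselization (LP A B) T (Or.inr inferInstance)
  haveI : Module.Flat (LP A B) T := Hens.strictHenselization_flat (LP A B) T
  haveI : FormallyUnramified A A' :=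
    haveI := HensH7.formallyEtale_of_henselization A A' (Or.inr inferInstance)
    inferInstance
  haveI hf : IsLocalHom ((algebraMap B B').comp (piB A B)) := inferInstance
  obtain ⟨τ, hτ⟩ := Hens.exists_residue_lift (LP A B) T ((algebraMap B B').comp (piB A B))
  have hτ' : ∀ x, τ (ResidueField.map (algebraMap (LP A B) T) (residue _ x)) = residue B' (algebraMap B B' (piB A B x)) :=
    fun x => congr($hτ (residue _ x))
  let eA : ResidueField (LP A B) ≃+* ResidueField B :=
    RingEquiv.ofBijective (ResidueField.map (piB A B)) ⟨RingHom.injective _, fun y => by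
      obtain ⟨b, rfl⟩ := residue_surjective y
      obtain ⟨x, rfl⟩ := piB_surjective A B b
      exact ⟨residue _ x, rfl⟩⟩
  haveI : IsSepClosed (ResidueField T) := (Hensel.IsStrictHenselization.isSepClosure (R := LP A B) (S := T)).1
  have hτsurj : Function.Surjective τ :=
    Hens.surjective_of_isSepClosed τ ((ResidueField.map (algebraMap (LP A B) T)).comp eA.symm.toRingHom) (RingHom.ext fun y => by
      obtain ⟨x, rfl⟩ := eA.surjective y
      show τ (ResidueField.map _ (eA.symm (eA x))) = algebraMap (ResidueField B) (ResidueField B') (eA x)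
      rw [eA.symm_apply_apply]
      obtain ⟨x, rfl⟩ := residue_surjective x
      exact hτ' x)
  let τe : ResidueField T ≃+* ResidueField B' := RingEquiv.ofBijective τ ⟨RingHom.injective _, hτsurj⟩
  have hτe : ∀ z, τ (τe.symm z) = z := τe.apply_symm_apply
  obtain ⟨ψ, ⟨hψ, hψτ⟩, -⟩ := Hensel.IsStrictHenselization.universal (R := LP A B) (S := T) B' _ τ hτ
  have hψ' : ∀ x, ψ (algebraMap (LP A B) T x) = algebraMap B B' (piB A B x) := fun x => congr($hψ x)
  haveI := nontrivial_fibre T ψ hψ'
  set J := (RingHom.ker (piB A B)).map (algebraMap (LP A B) T)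
  haveI : IsLocalRing (T ⧸ J) := .of_surjective' (Ideal.Quotient.mk J) Ideal.Quotient.mk_surjective
  haveI : HenselianLocalRing (T ⧸ J) := Hens.henselianLocalRing_of_isIntegral T _
  haveI hmk : IsLocalHom (Ideal.Quotient.mk J) := IsLocalHom.of_surjective _ Ideal.Quotient.mk_surjective
  haveI hf2 : IsLocalHom (toFibre (A := A) (B := B) T) := ⟨fun b hb => by
    obtain ⟨x, rfl⟩ := piB_surjective A B b
    rw [toFibre_pi] at hb
    exact (IsLocalHom.map_nonunit (f := algebraMap (LP A B) T) x (IsLocalHom.map_nonunit (f := Ideal.Quotient.mk J) _ hb)).map _⟩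
  let τ₂ : ResidueField B' →+* ResidueField (T ⧸ J) := (ResidueField.map (Ideal.Quotient.mk J)).comp τe.symm.toRingHom
  have hτ₂ : τ₂.comp (ResidueField.map (algebraMap B B')) = ResidueField.map (toFibre (A := A) (B := B) T) := by
    refine RingHom.ext fun y => ?_
    obtain ⟨b, rfl⟩ := residue_surjective y
    obtain ⟨x, rfl⟩ := piB_surjective A B b
    show ResidueField.map (Ideal.Quotient.mk J) (τe.symm (residue B' (algebraMap B B' (piB A B x)))) =
      residue _ (toFibre (A := A) (B := B) T (piB A B x))
    rw [← hτ' x, show τ (ResidueField.map (algebraMap (LP A B) T) (residue _ x)) =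
      τe (ResidueField.map (algebraMap (LP A B) T) (residue _ x)) from rfl, τe.symm_apply_apply, toFibre_pi]
    rfl
  obtain ⟨h2, ⟨hh2, hh2τ⟩, -⟩ := Hensel.IsStrictHenselization.universal (R := B) (S := B') (T ⧸ J) _ τ₂ hτ₂
  have hl : h2.comp ψ = Ideal.Quotient.mk J := by
    haveI : IsLocalHom ((Ideal.Quotient.mk J).comp (algebraMap (LP A B) T)) := inferInstance
    refine Hens.strictHenselization_hom_ext (LP A B) T _ _ (RingHom.ext fun x => ?_) (fun x => ?_)
    · show h2 (ψ (algebraMap _ _ x)) = _
      rw [hψ', ← RingHom.comp_apply h2, hh2, toFibre_pi]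
      rfl
    · show residue _ (h2 (ψ x)) = _
      rw [hh2τ, hψτ]
      show ResidueField.map (Ideal.Quotient.mk J) (τe.symm (τe (residue T x))) = _
      rw [τe.symm_apply_apply]
      rfl
  have hker : ∀ x ∈ J, ψ x = 0 := fun x hx => by
    have hle : J ≤ RingHom.ker ψ :=
      Ideal.map_le_iff_le_comap.2 fun x hx => show ψ _ = 0 by rw [hψ', RingHom.mem_ker.1 hx, map_zero]
    exact hle hx
  have hr : (Ideal.Quotient.lift J ψ hker).comp h2 = RingHom.id B' := by
    haveI : IsLocalHom ((RingHom.id B').comp (algebraMap B B')) := inferInstance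
    refine Hens.strictHenselization_hom_ext B B' _ _ (RingHom.ext fun b => ?_) (fun y => ?_)
    · obtain ⟨x, rfl⟩ := piB_surjective A B b
      show Ideal.Quotient.lift J ψ hker (h2 (algebraMap _ _ _)) = _
      rw [← RingHom.comp_apply h2, hh2, toFibre_pi, Ideal.Quotient.lift_mk, hψ']
      rfl
    · obtain ⟨x, hx⟩ := Ideal.Quotient.mk_surjective (h2 y)
      show residue _ (Ideal.Quotient.lift J ψ hker (h2 y)) = residue _ y
      have h := hh2τ y
      rw [← hx] at h ⊢
      have h' : residue T x = τe.symm (residue B' y) := (ResidueField.map (Ideal.Quotient.mk J)).injective h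
      rw [Ideal.Quotient.lift_mk, hψτ, h', hτe]
  haveI : IsLocalHom (algebraMap A' B') := ⟨fun x hx => by
    by_contra hn
    have hle : (maximalIdeal A).map (algebraMap A A') ≤ (maximalIdeal B').comap (algebraMap A' B') :=
      Ideal.map_le_iff_le_comap.2 fun a ha => by
        show algebraMap A' B' (algebraMap A A' a) ∈ maximalIdeal B'
        rw [← IsScalarTower.algebraMap_apply, IsScalarTower.algebraMap_apply A B B']
        exact map_nonunit (algebraMap B B') _ (map_nonunit (algebraMap A B) a ha)
    rw [Hens.strictHenselization_map_maximalIdeal A A'] at hle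
    exact (hle hn : algebraMap A' B' x ∈ maximalIdeal B') hx⟩
  haveI hfA := isLocalHom_toT (A := A) (B := B) T
  let τA : ResidueField A' →+* ResidueField T := τe.symm.toRingHom.comp (ResidueField.map (algebraMap A' B'))
  have hA' : ∀ a, algebraMap A' B' (algebraMap A A' a) =
      ψ (algebraMap (LP A B) T (algebraMap (PR A B) (LP A B) (algebraMap A (PR A B) a))) := fun a => by
    rw [hψ', piB_to, ← IsScalarTower.algebraMap_apply A (PR A B) B, ← IsScalarTower.algebraMap_apply A B B',
      ← IsScalarTower.algebraMap_apply]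
  have hτA : τA.comp (ResidueField.map (algebraMap A A')) =
      ResidueField.map ((algebraMap (LP A B) T).comp ((algebraMap (PR A B) (LP A B)).comp (algebraMap A (PR A B)))) := by
    refine RingHom.ext fun y => ?_
    obtain ⟨a, rfl⟩ := residue_surjective y
    show τe.symm (residue B' (algebraMap A' B' (algebraMap A A' a))) = residue T _
    rw [hA', hψτ]
    exact τe.symm_apply_apply _
  obtain ⟨φ, ⟨hφ, hφτ⟩, -⟩ := Hensel.IsStrictHenselization.universal (R := A) (S := A') T _ τA hτA
  have hψφ : ψ.comp φ = algebraMap A' B' := by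
    haveI : IsLocalHom ((algebraMap A' B').comp (algebraMap A A')) := inferInstance
    refine Hens.strictHenselization_hom_ext A A' _ _ (RingHom.ext fun a => ?_) (fun x => ?_)
    · show ψ (φ (algebraMap _ _ a)) = algebraMap A' B' (algebraMap A A' a)
      rw [← RingHom.comp_apply φ, hφ, hA']
      rfl
    · show residue _ (ψ (φ x)) = _
      rw [hψτ, hφτ]
      exact hτe _
  refine quasiIso_of_local_lift T φ (fun a => congr($hφ a)) ψ hψ' (fun a' => congr($hψφ a')) h2 (fun x => congr($hl x))
    (fun y => ?_)
  obtain ⟨x, hx⟩ := Ideal.Quotient.mk_surjective (h2 y)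
  refine ⟨x, hx.symm, ?_⟩
  have := congr($hr y)
  rw [RingHom.comp_apply, ← hx, Ideal.Quotient.lift_mk] at this
  exact this

end Groth.Agent.NLEtale28
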