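import Groth.Agent.Lib.NLEtale28.Pushout
import Groth.Agent.Lib.CI2.NLPerf

/-! # The kernel of base change on `H^{-1}` of naive cotangent complexes -/

set_option autoImplicit false
set_option linter.style.haveILetI false
universe u

open CategoryTheory CategoryTheory.Limits TensorProduct Algebra

namespace Groth.Agent.NLEtale28

variable {R S R' S' : Type u} [CommRing R] [CommRing S] [Algebra R S] [CommRing R'] [CommRing S'] [Algebra R' S']
  [Algebra R R'] [Algebra S S'] [Algebra R S'] [IsScalarTower R R' S'] [IsScalarTower R S S']

theorem bc_cycles_eq {P : Extension.{u} R S} {P' : Extension.{u} R' S'} (f g : P.Hom P') {x : S' ⊗[S] P.Cotangent}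
    (hx : P.cotangentComplex.baseChange S' x = 0) :
    LinearMap.liftBaseChange S' (Extension.Cotangent.map f) x = LinearMap.liftBaseChange S' (Extension.Cotangent.map g) x := by
  have h : LinearMap.liftBaseChange S' (Extension.Cotangent.map f) =
      LinearMap.liftBaseChange S' (f.sub g) ∘ₗ P.cotangentComplex.baseChange S' +
        LinearMap.liftBaseChange S' (Extension.Cotangent.map g) := by
    ext y
    have := LinearMap.congr_fun (Extension.Cotangent.map_sub_map f g) y
    simp only [LinearMap.sub_apply, LinearMap.comp_apply] at this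
    simpa using congrArg Extension.Cotangent.val (sub_eq_iff_eq_add.1 this)
  rw [h, LinearMap.add_apply, LinearMap.comp_apply, hx, map_zero, zero_add]

variable (S') in
/-- The base change of a map of extensions on cycles. -/
noncomputable def cyc {P Q : Extension.{u} R S} (q : P.Hom Q) : NLCx.bcH1 P S' →ₗ[S'] NLCx.bcH1 Q S' :=
  ((Extension.Cotangent.map q).baseChange S').restrict fun x hx => by
    show Q.cotangentComplex.baseChange S' ((Extension.Cotangent.map q).baseChange S' x) = 0
    have h : Q.cotangentComplex.baseChange S' ∘ₗ (Extension.Cotangent.map q).baseChange S' =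
        (Extension.CotangentSpace.map q).baseChange S' ∘ₗ P.cotangentComplex.baseChange S' := by
      ext y
      simp [Extension.CotangentSpace.map_cotangentComplex]
    have hx' : P.cotangentComplex.baseChange S' x = 0 := hx
    rw [← LinearMap.comp_apply, h, LinearMap.comp_apply, hx', map_zero]

theorem cyc_inv {P Q : Extension.{u} R S} (q : P.Hom Q) (q' : Q.Hom P) (z : NLCx.bcH1 P S') :
    cyc S' q' (cyc S' q z) = z := by
  refine Subtype.ext ?_
  show (Extension.Cotangent.map q').baseChange S' ((Extension.Cotangent.map q).baseChange S' z.1) = z.1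
  have h : (Extension.Cotangent.map q').baseChange S' ∘ₗ (Extension.Cotangent.map q).baseChange S' =
      ((q'.comp q).sub (Extension.Hom.id P)).baseChange S' ∘ₗ P.cotangentComplex.baseChange S' +
        LinearMap.id (R := S') (M := S' ⊗[S] P.Cotangent) := by
    ext y
    simp [CI2.cot_homotopic R S q q', TensorProduct.tmul_add]
  have hz : P.cotangentComplex.baseChange S' z.1 = 0 := z.2
  rw [← LinearMap.comp_apply, h, LinearMap.add_apply, LinearMap.comp_apply, hz, map_zero, zero_add, LinearMap.id_apply]

/-- Changing presentations does not change the kernel of base change on `H^{-1}`. -/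
noncomputable def kerEquiv {P P₁ : Extension.{u} R S} {P' P₁' : Extension.{u} R' S'} (f : P.Hom P') (a : P₁.Hom P₁')
    (q : P.Hom P₁) (q' : P₁.Hom P) (t : P₁'.Hom P') (t' : P'.Hom P₁') :
    LinearMap.ker (NLCx.bcH1Map f) ≃ₗ[S'] LinearMap.ker (NLCx.bcH1Map a) where
  toFun z := ⟨cyc S' q z.1, by
    have hz : LinearMap.liftBaseChange S' (Extension.Cotangent.map f) z.1.1 = 0 := congrArg Subtype.val z.2
    refine Subtype.ext ?_
    show LinearMap.liftBaseChange S' (Extension.Cotangent.map a) ((Extension.Cotangent.map q).baseChange S' z.1.1) = 0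
    have h1 : LinearMap.liftBaseChange S' (Extension.Cotangent.map a) ∘ₗ (Extension.Cotangent.map q).baseChange S' =
        LinearMap.liftBaseChange S' (Extension.Cotangent.map (a.comp q)) := by
      ext y; simp [Extension.Cotangent.map_comp]
    have h2 : Extension.Cotangent.map t' ∘ₗ LinearMap.liftBaseChange S' (Extension.Cotangent.map f) =
        LinearMap.liftBaseChange S' (Extension.Cotangent.map (t'.comp f)) := by
      ext y; simp [Extension.Cotangent.map_comp]
    rw [← LinearMap.comp_apply, h1, bc_cycles_eq _ (t'.comp f) z.1.2, ← h2, LinearMap.comp_apply, hz, map_zero]⟩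
  invFun z := ⟨cyc S' q' z.1, by
    have hz : LinearMap.liftBaseChange S' (Extension.Cotangent.map a) z.1.1 = 0 := congrArg Subtype.val z.2
    refine Subtype.ext ?_
    show LinearMap.liftBaseChange S' (Extension.Cotangent.map f) ((Extension.Cotangent.map q').baseChange S' z.1.1) = 0
    have h1 : LinearMap.liftBaseChange S' (Extension.Cotangent.map f) ∘ₗ (Extension.Cotangent.map q').baseChange S' =
        LinearMap.liftBaseChange S' (Extension.Cotangent.map (f.comp q')) := by
      ext y; simp [Extension.Cotangent.map_comp]
    have h2 : Extension.Cotangent.map t ∘ₗ LinearMap.liftBaseChange S' (Extension.Cotangent.map a) =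
        LinearMap.liftBaseChange S' (Extension.Cotangent.map (t.comp a)) := by
      ext y; simp [Extension.Cotangent.map_comp]
    rw [← LinearMap.comp_apply, h1, bc_cycles_eq _ (t.comp a) z.1.2, ← h2, LinearMap.comp_apply, hz, map_zero]⟩
  map_add' x y := Subtype.ext (map_add _ _ _)
  map_smul' c x := Subtype.ext (map_smul _ _ _)
  left_inv z := Subtype.ext (cyc_inv q q' z.1)
  right_inv z := Subtype.ext (cyc_inv q' q z.1)

/-- Projectivity of the conormal module does not depend on the presentation. -/
theorem projective_cotangent_of_homs {X Y : Extension.{u} R' S'} (p : X.Hom Y) (q : Y.Hom X)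
    [Module.Projective S' Y.Cotangent] [Module.Projective S' X.CotangentSpace] :
    Module.Projective S' X.Cotangent := by
  let k := (q.comp p).sub (Extension.Hom.id X)
  let i : X.Cotangent →ₗ[S'] Y.Cotangent × X.CotangentSpace :=
    (Extension.Cotangent.map p).prod X.cotangentComplex
  let r : Y.Cotangent × X.CotangentSpace →ₗ[S'] X.Cotangent := (Extension.Cotangent.map q).coprod (-k)
  refine Module.Projective.of_split i r (LinearMap.ext fun x => ?_)
  show Extension.Cotangent.map q (Extension.Cotangent.map p x) + -(k (X.cotangentComplex x)) = x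
  rw [CI2.cot_homotopic R' S' p q, add_neg_eq_iff_eq_add, add_comm]

theorem finite_projective_ker_bcH1Map {P : Extension.{u} R S} {P' : Extension.{u} R' S'} (f : P.Hom P')
    (hs : Function.Injective (LinearMap.liftBaseChange S' (Extension.CotangentSpace.map f)))
    (hc : Function.Surjective (LinearMap.liftBaseChange S' (Extension.Cotangent.map f)))
    [Module.Finite S P.Cotangent] [Module.Projective S P.Cotangent] [Module.Projective S' P'.Cotangent] :
    Module.Finite S' (LinearMap.ker (NLCx.bcH1Map f)) ∧ Module.Projective S' (LinearMap.ker (NLCx.bcH1Map f)) := by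
  set c := LinearMap.liftBaseChange S' (Extension.Cotangent.map f) with hcdef
  obtain ⟨s, hs'⟩ := Module.projective_lifting_property c LinearMap.id hc
  have hsc : ∀ y, c (s y) = y := fun y => LinearMap.congr_fun hs' y
  let r : S' ⊗[S] P.Cotangent →ₗ[S'] LinearMap.ker c :=
    (LinearMap.id - s ∘ₗ c).codRestrict _ fun x => by
      show c (x - s (c x)) = 0
      rw [map_sub, hsc, sub_self]
  have hr : r ∘ₗ (LinearMap.ker c).subtype = LinearMap.id := LinearMap.ext fun x => Subtype.ext (by
    show x.1 - s (c x.1) = x.1
    rw [show c x.1 = 0 from x.2, map_zero, sub_zero])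
  haveI : Module.Projective S' (LinearMap.ker c) := Module.Projective.of_split _ r hr
  haveI : Module.Finite S' (LinearMap.ker c) :=
    Module.Finite.of_surjective r fun x => ⟨x.1, LinearMap.congr_fun hr x⟩
  have hle : ∀ x, c x = 0 → x ∈ NLCx.bcH1 P S' := fun x hx => by
    refine hs ?_
    rw [map_zero]
    have key := congr($(bc_comm f) x)
    refine key.symm.trans ?_
    show P'.cotangentComplex (c x) = 0
    rw [hx, map_zero]
  let e : LinearMap.ker c ≃ₗ[S'] LinearMap.ker (NLCx.bcH1Map f) :=
    { toFun := fun x => ⟨⟨x.1, hle x.1 x.2⟩, Subtype.ext x.2⟩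
      invFun := fun z => ⟨z.1.1, congrArg Subtype.val z.2⟩
      map_add' := fun _ _ => rfl
      map_smul' := fun _ _ => rfl
      left_inv := fun _ => rfl
      right_inv := fun _ => rfl }
  exact ⟨Module.Finite.equiv e, Module.Projective.of_equiv e⟩

theorem finite_projective_ker_of_isLCI [Algebra.IsPushout R R' S S'] (hB : LCI.IsLCI R S) (hB' : LCI.IsLCI R' S') :
    Module.Finite S' (LinearMap.ker (NLCx.bcH1Map
        ((Generators.self R S).defaultHom (Generators.self R' S')).toExtensionHom)) ∧
      Module.Projective S' (LinearMap.ker (NLCx.bcH1Map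
        ((Generators.self R S).defaultHom (Generators.self R' S')).toExtensionHom)) := by
  obtain ⟨-, n, φ, hφ, hK⟩ := hB
  obtain ⟨-, n', φ', hφ', hK'⟩ := hB'
  let G : Generators R S (ULift.{u} (Fin n)) := (Generators.ofAlgHom φ hφ).reindex Equiv.ulift
  let G₀ : Generators R S (Fin n) := Generators.ofAlgHom φ hφ
  let H₀ : Generators R' S' (Fin n') := Generators.ofAlgHom φ' hφ'
  have hker : ∀ {A B : Type u} [CommRing A] [CommRing B] [Algebra A B] {m : ℕ} (ψ : MvPolynomial (Fin m) A →ₐ[A] B)
      (hψ : Function.Surjective ψ), LCI.IsKoszulRegularIdeal (RingHom.ker ψ.toRingHom) →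
      Module.Finite B (Generators.ofAlgHom ψ hψ).toExtension.Cotangent ∧
        Module.Projective B (Generators.ofAlgHom ψ hψ).toExtension.Cotangent := by
    intro A B _ _ _ m ψ hψ h
    refine CI2.finite_projective_extCotangent A B _ ?_
    let P := Generators.ofAlgHom ψ hψ
    have hP : P.toExtension.ker = RingHom.ker ψ.toRingHom := by
      have : MvPolynomial.aeval P.val = ψ := MvPolynomial.algHom_ext fun i => by
        rw [MvPolynomial.aeval_X]; rfl
      conv_rhs => rw [← this]
      exact P.ker_eq_ker_aeval_val
    exact hP ▸ h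
  obtain ⟨i1, i2⟩ := hker φ hφ hK
  obtain ⟨-, i3⟩ := hker φ' hφ' hK'
  have hsurj : Function.Surjective (MvPolynomial.aeval (R := R') fun i => algebraMap S S' (G.val i)) := by
    intro y
    refine (Algebra.IsPushout.out (R := R) (S := R') (R' := S) (S' := S')).inductionOn
      (motive := fun y => ∃ x, MvPolynomial.aeval (R := R') (fun i => algebraMap S S' (G.val i)) x = y) y
      ⟨0, map_zero _⟩ (fun s => ⟨MvPolynomial.map (algebraMap R R') (G.σ s), ?_⟩) ?_ ?_
    · rw [MvPolynomial.aeval_map_algebraMap]
      refine (MvPolynomial.aeval_algebraMap_apply S' G.val (G.σ s)).trans ?_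
      rw [G.aeval_val_σ]
      rfl
    · rintro c _ ⟨x, rfl⟩
      exact ⟨c • x, map_smul _ _ _⟩
    · rintro _ _ ⟨x, rfl⟩ ⟨x', rfl⟩
      exact ⟨x + x', map_add _ _ _⟩
  let G' : Generators R' S' (ULift.{u} (Fin n)) := Generators.ofSurjective _ hsurj
  haveI : Module.Projective S' G'.toExtension.CotangentSpace := .of_basis G'.cotangentSpaceBasis
  haveI : Module.Projective S G.toExtension.CotangentSpace := .of_basis G.cotangentSpaceBasis
  haveI : Module.Projective S' G'.toExtension.Cotangent :=
    projective_cotangent_of_homs (G'.defaultHom H₀).toExtensionHom (H₀.defaultHom G').toExtensionHom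
  haveI : Module.Projective S G.toExtension.Cotangent :=
    projective_cotangent_of_homs (G.defaultHom G₀).toExtensionHom (G₀.defaultHom G).toExtensionHom
  haveI : Module.Finite S G.toExtension.Cotangent := by
    let X := G.toExtension
    let q := (G₀.defaultHom G).toExtensionHom
    let p := (G.defaultHom G₀).toExtensionHom
    let k := (q.comp p).sub (Extension.Hom.id X)
    haveI : Module.Finite S X.CotangentSpace := .of_basis G.cotangentSpaceBasis
    refine Module.Finite.of_surjective ((Extension.Cotangent.map q).coprod (-k)) fun x =>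
      ⟨(Extension.Cotangent.map p x, X.cotangentComplex x), ?_⟩
    show Extension.Cotangent.map q (Extension.Cotangent.map p x) + -(k (X.cotangentComplex x)) = x
    rw [CI2.cot_homotopic R S p q, add_neg_eq_iff_eq_add, add_comm]
  let a := (NLCx.sameVarsHom G G' fun _ => rfl).toExtensionHom
  obtain ⟨j1, j2⟩ := finite_projective_ker_bcH1Map a (bijective_cotangentSpace_sameVars G G' fun _ => rfl).1
    (surjective_cotangent_liftBaseChange a (ker_le_of_isPushout G G' fun _ => rfl))
  let e := kerEquiv ((Generators.self R S).defaultHom (Generators.self R' S')).toExtensionHom a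
    ((Generators.self R S).defaultHom G).toExtensionHom (G.defaultHom (Generators.self R S)).toExtensionHom
    (G'.defaultHom (Generators.self R' S')).toExtensionHom ((Generators.self R' S').defaultHom G').toExtensionHom
  exact ⟨Module.Finite.equiv e.symm, Module.Projective.of_equiv e.symm⟩

end Groth.Agent.NLEtale28
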