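import Groth.Agent.Lib.NLEtale28.Core

/-! # The naive cotangent complex along base change of presentations -/

set_option autoImplicit false
set_option linter.style.haveILetI false
set_option maxHeartbeats 1000000
universe u

open CategoryTheory CategoryTheory.Limits TensorProduct Algebra

namespace Groth.Agent.NLEtale28

variable {R S R' S' : Type u} [CommRing R] [CommRing S] [Algebra R S] [CommRing R'] [CommRing S'] [Algebra R' S']
  [Algebra R R'] [Algebra S S'] [Algebra R S'] [IsScalarTower R R' S'] [IsScalarTower R S S']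

/-- The map on conormal modules is surjective if the ideal upstairs is generated by the ideal downstairs. -/
theorem surjective_cotangent_liftBaseChange {P : Extension.{u} R S} {P' : Extension.{u} R' S'} (f : P.Hom P')
    (hker : P'.ker ≤ P.ker.map f.toRingHom) :
    Function.Surjective (LinearMap.liftBaseChange S' (Extension.Cotangent.map f)) := by
  intro y
  obtain ⟨⟨x, hx⟩, rfl⟩ := Extension.Cotangent.mk_surjective y
  have hx' := hker hx
  rw [Ideal.map] at hx'
  suffices ∀ hy : x ∈ P'.ker, ∃ z, LinearMap.liftBaseChange S' (Extension.Cotangent.map f) z = .mk ⟨x, hy⟩ from this hx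
  clear hx
  induction hx' using Submodule.span_induction with
  | mem y hy =>
    intro hy'
    obtain ⟨w, hw, rfl⟩ := hy
    exact ⟨(1 : S') ⊗ₜ .mk ⟨w, hw⟩, by rw [LinearMap.liftBaseChange_tmul, one_smul, Extension.Cotangent.map_mk]; rfl⟩
  | zero => intro _; exact ⟨0, by rw [map_zero]; exact (map_zero _).symm⟩
  | add y y' hy hy' ih ih' =>
    intro _
    have m : ∀ {y}, y ∈ Submodule.span P'.Ring (f.toRingHom '' P.ker) → y ∈ P'.ker := fun {y} h =>
      (Ideal.map_le_iff_le_comap.2 fun w hw => show algebraMap P'.Ring S' (f.toRingHom w) = 0 by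
        rw [f.algebraMap_toRingHom, show algebraMap P.Ring S w = 0 from hw, map_zero] : P.ker.map f.toRingHom ≤ P'.ker) h
    obtain ⟨z, hz⟩ := ih (m hy)
    obtain ⟨z', hz'⟩ := ih' (m hy')
    exact ⟨z + z', by rw [map_add, hz, hz', ← map_add]; rfl⟩
  | smul c y hy ih =>
    intro _
    have m : y ∈ P'.ker :=
      (Ideal.map_le_iff_le_comap.2 fun w hw => show algebraMap P'.Ring S' (f.toRingHom w) = 0 by
        rw [f.algebraMap_toRingHom, show algebraMap P.Ring S w = 0 from hw, map_zero] : P.ker.map f.toRingHom ≤ P'.ker) hy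
    obtain ⟨z, hz⟩ := ih m
    refine ⟨algebraMap P'.Ring S' c • z, ?_⟩
    rw [map_smul, hz, algebraMap_smul, ← map_smul]
    rfl

/-- The map on conormal modules is bijective for a map of extensions with compatible ideals. -/
theorem bijective_cotangent_liftBaseChange_of_injective {P : Extension.{u} R S} {P' : Extension.{u} R' S'}
    (f : P.Hom P') (hinj : letI : Algebra P.Ring P'.Ring := f.toRingHom.toAlgebra
      Function.Injective ((Submodule.subtype P.ker).lTensor P'.Ring)) (hker : P'.ker = P.ker.map f.toRingHom) :
    Function.Bijective (LinearMap.liftBaseChange S' (Extension.Cotangent.map f)) := by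
  letI : Algebra R P'.Ring := ((algebraMap R' P'.Ring).comp (algebraMap R R')).toAlgebra
  haveI : IsScalarTower R R' P'.Ring := IsScalarTower.of_algebraMap_eq fun _ => rfl
  let ψA : P'.Ring →ₐ[R] S' :=
    { algebraMap P'.Ring S' with
      commutes' := fun r => by
        show algebraMap P'.Ring S' (algebraMap R' P'.Ring (algebraMap R R' r)) = algebraMap R S' r
        rw [← IsScalarTower.algebraMap_apply R' P'.Ring S', ← IsScalarTower.algebraMap_apply] }
  let Q₀ : Extension.{u} R S' := .ofSurjective ψA P'.algebraMap_surjective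
  let f₀ : P.Hom Q₀ :=
    { toRingHom := f.toRingHom
      toRingHom_algebraMap := fun r => f.toRingHom_algebraMap r
      algebraMap_toRingHom := f.algebraMap_toRingHom }
  let ι : Q₀.Hom P' :=
    { toRingHom := RingHom.id P'.Ring
      toRingHom_algebraMap := fun r => rfl
      algebraMap_toRingHom := fun x => rfl }
  have hker₀ : Q₀.ker = P.ker.map f₀.toRingHom := hker
  letI : Algebra P.Ring Q₀.Ring := f₀.toRingHom.toAlgebra
  have halg : algebraMap P.Ring Q₀.Ring = f₀.toRingHom := rfl
  have hH : Function.Bijective ((f₀.mapKer halg).liftBaseChange Q₀.Ring) := by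
    constructor
    · rw [injective_iff_map_eq_zero]
      intro z hz
      have hc : (TensorProduct.rid P.Ring Q₀.Ring).toLinearMap ∘ₗ (Submodule.subtype P.ker).lTensor Q₀.Ring =
          ((Submodule.subtype Q₀.ker).restrictScalars P.Ring) ∘ₗ ((f₀.mapKer halg).liftBaseChange Q₀.Ring).restrictScalars P.Ring := by
        refine TensorProduct.ext' fun t x => ?_
        show (x : P.Ring) • t = t * f₀.toRingHom x
        rw [Algebra.smul_def, mul_comm]
        rfl
      have h := LinearMap.congr_fun hc z
      refine (injective_iff_map_eq_zero _).1 hinj z ((TensorProduct.rid P.Ring Q₀.Ring).injective ?_)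
      erw [map_zero]
      refine h.trans ?_
      show ((f₀.mapKer halg).liftBaseChange Q₀.Ring z : Q₀.Ring) = 0
      rw [hz]
      rfl
    · rintro ⟨x, hx⟩
      have hx' : x ∈ P.ker.map f₀.toRingHom := hker₀ ▸ hx
      suffices ∀ hy : x ∈ Q₀.ker, ∃ z, (f₀.mapKer halg).liftBaseChange Q₀.Ring z = ⟨x, hy⟩ from this hx
      rw [Ideal.map] at hx'
      clear hx
      induction hx' using Submodule.span_induction with
      | mem y hy =>
        intro hy'
        obtain ⟨w, hw, rfl⟩ := hy
        exact ⟨(1 : Q₀.Ring) ⊗ₜ ⟨w, hw⟩, Subtype.ext (one_mul _)⟩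
      | zero => intro _; exact ⟨0, by simp; rfl⟩
      | add y y' hy hy' ih ih' =>
        intro _
        obtain ⟨z, hz⟩ := ih (hker₀ ▸ hy)
        obtain ⟨z', hz'⟩ := ih' (hker₀ ▸ hy')
        exact ⟨z + z', by rw [map_add, hz, hz']; rfl⟩
      | smul c y hy ih =>
        intro _
        obtain ⟨z, hz⟩ := ih (hker₀ ▸ hy)
        exact ⟨c • z, by rw [map_smul, hz]; rfl⟩
  have hι₁ : Function.Bijective (Extension.Cotangent.map ι) := by
    constructor
    · rw [injective_iff_map_eq_zero]
      intro x hx
      obtain ⟨x, rfl⟩ := Extension.Cotangent.mk_surjective x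
      rw [Extension.Cotangent.map_mk] at hx
      have := congrArg Extension.Cotangent.val hx
      simp only [Extension.Cotangent.val_mk, Extension.Cotangent.val_zero, Ideal.toCotangent_eq_zero] at this
      refine Extension.Cotangent.ext ?_
      rw [Extension.Cotangent.val_mk, Extension.Cotangent.val_zero, Ideal.toCotangent_eq_zero]
      exact this
    · intro x
      obtain ⟨⟨x, hx⟩, rfl⟩ := Extension.Cotangent.mk_surjective x
      exact ⟨.mk ⟨x, hx⟩, rfl⟩
  have he : LinearMap.liftBaseChange S' (Extension.Cotangent.map f) =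
      Extension.Cotangent.map ι ∘ₗ LinearMap.liftBaseChange S' (Extension.Cotangent.map f₀) := by
    ext x
    obtain ⟨x, rfl⟩ := Extension.Cotangent.mk_surjective x
    simp [Extension.Cotangent.map_mk]
    rfl
  rw [he]
  exact hι₁.comp (Extension.tensorCotangent f₀ halg hH).bijective

/-- The map on conormal modules is bijective for a flat map of extensions with compatible ideals. -/
theorem bijective_cotangent_liftBaseChange {P : Extension.{u} R S} {P' : Extension.{u} R' S'} (f : P.Hom P')
    (hflat : f.toRingHom.Flat) (hker : P'.ker = P.ker.map f.toRingHom) :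
    Function.Bijective (LinearMap.liftBaseChange S' (Extension.Cotangent.map f)) :=
  bijective_cotangent_liftBaseChange_of_injective f (by
    letI : Algebra P.Ring P'.Ring := f.toRingHom.toAlgebra
    haveI : Module.Flat P.Ring P'.Ring := hflat
    exact Module.Flat.lTensor_preserves_injective_linearMap (M := P'.Ring) _ (Submodule.subtype_injective P.ker)) hker

section SameVars

variable {ι : Type u} (G : Generators R S ι) (G' : Generators R' S' ι) (h : ∀ i, G'.val i = algebraMap S S' (G.val i))

theorem sameVars_toRingHom :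
    (NLCx.sameVarsHom G G' h).toExtensionHom.toRingHom = MvPolynomial.map (algebraMap R R') := by
  refine MvPolynomial.ringHom_ext (fun r => ?_) (fun i => ?_)
  · show (NLCx.sameVarsHom G G' h).toAlgHom (MvPolynomial.C r) = _
    exact (Generators.Hom.toAlgHom_C _ r).trans (MvPolynomial.map_C _ r).symm
  · show (NLCx.sameVarsHom G G' h).toAlgHom (MvPolynomial.X i) = _
    exact (Generators.Hom.toAlgHom_X _ i).trans (MvPolynomial.map_X _ i).symm

theorem bijective_cotangentSpace_sameVars :
    Function.Bijective (LinearMap.liftBaseChange S'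
      (Extension.CotangentSpace.map (NLCx.sameVarsHom G G' h).toExtensionHom)) := by
  classical
  let e := (G.cotangentSpaceBasis.baseChange S').equiv G'.cotangentSpaceBasis (Equiv.refl ι)
  have he : LinearMap.liftBaseChange S' (Extension.CotangentSpace.map (NLCx.sameVarsHom G G' h).toExtensionHom) =
      e.toLinearMap := by
    refine (G.cotangentSpaceBasis.baseChange S').ext fun i => G'.cotangentSpaceBasis.ext_elem fun j => ?_
    rw [LinearEquiv.coe_coe, Module.Basis.equiv_apply, Module.Basis.baseChange_apply, LinearMap.liftBaseChange_tmul,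
      one_smul, Generators.repr_CotangentSpaceMap, Equiv.refl_apply, Module.Basis.repr_self]
    show MvPolynomial.aeval G'.val (MvPolynomial.pderiv j (MvPolynomial.X i)) = _
    rw [MvPolynomial.pderiv_X, Finsupp.single_apply]
    obtain rfl | hij := eq_or_ne i j
    · simp
    · simp [Pi.single_eq_of_ne (Ne.symm hij), hij]
  rw [he]
  exact e.bijective

theorem ker_le_of_isPushout [Algebra.IsPushout R R' S S'] :
    G'.toExtension.ker ≤ G.toExtension.ker.map (NLCx.sameVarsHom G G' h).toExtensionHom.toRingHom := by
  set f : MvPolynomial ι R →+* MvPolynomial ι R' := (NLCx.sameVarsHom G G' h).toExtensionHom.toRingHom with hf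
  have hf' : f = MvPolynomial.map (algebraMap R R') := sameVars_toRingHom G G' h
  let J : Ideal (MvPolynomial ι R') := Ideal.map f (RingHom.ker (MvPolynomial.aeval G.val))
  let q : MvPolynomial ι R →ₐ[R] MvPolynomial ι R' ⧸ J :=
    ((Ideal.Quotient.mkₐ R' J).restrictScalars R).comp
      { f with
        commutes' := fun r => by
          show f (MvPolynomial.C r) = _
          rw [hf', MvPolynomial.map_C]
          rfl }
  have hsurj : Function.Surjective (MvPolynomial.aeval (R := R) G.val) := fun s => ⟨G.σ' s, G.aeval_val_σ' s⟩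
  have hq : RingHom.ker (MvPolynomial.aeval (R := R) G.val : MvPolynomial ι R →ₐ[R] S) ≤ RingHom.ker q := fun x hx =>
    Ideal.Quotient.eq_zero_iff_mem.2 (Ideal.mem_map_of_mem f hx)
  let g : S →ₐ[R] MvPolynomial ι R' ⧸ J := AlgHom.liftOfSurjective _ hsurj q hq
  let g' : R' →ₐ[R] MvPolynomial ι R' ⧸ J := IsScalarTower.toAlgHom R R' _
  let k : S' →ₐ[R] MvPolynomial ι R' ⧸ J := Algebra.pushoutDesc S' g' g fun _ _ => mul_comm _ _
  let k' : S' →ₐ[R'] MvPolynomial ι R' ⧸ J :=
    { k with commutes' := fun r => Algebra.pushoutDesc_left S' g' g (fun _ _ => mul_comm _ _) r }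
  have hk : k'.comp (MvPolynomial.aeval G'.val) = Ideal.Quotient.mkₐ R' J := by
    refine MvPolynomial.algHom_ext fun i => ?_
    show k (MvPolynomial.aeval G'.val (MvPolynomial.X i)) = _
    rw [MvPolynomial.aeval_X, h, Algebra.pushoutDesc_right,
      show G.val i = MvPolynomial.aeval G.val (MvPolynomial.X (R := R) i) from (MvPolynomial.aeval_X _ _).symm]
    show g _ = _
    rw [show g (MvPolynomial.aeval G.val (MvPolynomial.X (R := R) i)) = q (MvPolynomial.X i) from
      AlgHom.liftOfSurjective_apply _ hsurj q hq _]
    show Ideal.Quotient.mk J (f (MvPolynomial.X i)) = _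
    rw [hf', MvPolynomial.map_X]
    rfl
  intro x hx
  have hx' : MvPolynomial.aeval G'.val x = 0 := by
    rw [← G'.algebraMap_apply]; exact hx
  have := AlgHom.congr_fun hk x
  rw [AlgHom.comp_apply, hx', map_zero] at this
  have h2 := Ideal.Quotient.eq_zero_iff_mem.1 this.symm
  have hk2 : (G.toExtension.ker : Ideal (MvPolynomial ι R)) = RingHom.ker (MvPolynomial.aeval (R := R) G.val) :=
    SetLike.ext fun y => by
      show algebraMap G.toExtension.Ring S y = 0 ↔ MvPolynomial.aeval G.val y = 0
      rw [← G.algebraMap_apply]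
      rfl
  show x ∈ Ideal.map f (G.toExtension.ker : Ideal (MvPolynomial ι R))
  rw [hk2]
  exact h2

theorem flat_map [Module.Flat R R'] : (MvPolynomial.map (σ := ι) (algebraMap R R')).Flat := by
  letI := MvPolynomial.algebraMvPolynomial (σ := ι) (R := R) (S := R')
  haveI : Algebra.IsPushout R R' (MvPolynomial ι R) (MvPolynomial ι R') := inferInstance
  haveI : Algebra.IsPushout R (MvPolynomial ι R) R' (MvPolynomial ι R') := .symm inferInstance
  haveI : Module.Flat (MvPolynomial ι R) (MvPolynomial ι R ⊗[R] R') := Module.Flat.baseChange R (MvPolynomial ι R) R'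
  have : Module.Flat (MvPolynomial ι R) (MvPolynomial ι R') :=
    Module.Flat.of_linearEquiv (Algebra.IsPushout.equiv R (MvPolynomial ι R) R' (MvPolynomial ι R')).symm.toLinearEquiv
  rw [← MvPolynomial.algebraMap_def]
  exact RingHom.flat_algebraMap_iff.2 this

theorem flat_sameVars [Module.Flat R R'] : (NLCx.sameVarsHom G G' h).toExtensionHom.toRingHom.Flat :=
  (congrArg RingHom.Flat (sameVars_toRingHom G G' h)).mpr (flat_map (ι := ι))

theorem ker_eq_map {P : Extension.{u} R S} {P' : Extension.{u} R' S'} (f : P.Hom P')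
    (hle : P'.ker ≤ P.ker.map f.toRingHom) : P'.ker = P.ker.map f.toRingHom :=
  le_antisymm hle (Ideal.map_le_iff_le_comap.2 fun w hw => show algebraMap P'.Ring S' (f.toRingHom w) = 0 by
    rw [f.algebraMap_toRingHom, show algebraMap P.Ring S w = 0 from hw, map_zero])

/-- The surjection on `H^{-1}` for the base changed presentation. -/
theorem surjective_bcH1Map_sameVars [Algebra.IsPushout R R' S S'] :
    Function.Surjective (NLCx.bcH1Map (NLCx.sameVarsHom G G' h).toExtensionHom) := by
  rintro ⟨y, hy⟩
  obtain ⟨x, rfl⟩ := surjective_cotangent_liftBaseChange _ (ker_le_of_isPushout G G' h) y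
  refine ⟨⟨x, ?_⟩, rfl⟩
  refine (bijective_cotangentSpace_sameVars G G' h).1 ?_
  rw [map_zero]
  have key := congr($(bc_comm (NLCx.sameVarsHom G G' h).toExtensionHom) x)
  exact key.symm.trans hy

/-- Base change of a presentation along a flat map. -/
theorem isIso_bcMap_sameVars [Algebra.IsPushout R R' S S'] [Module.Flat R R'] :
    IsIso (NLCx.bcMap (NLCx.sameVarsHom G G' h).toExtensionHom) := by
  haveI := isIso_ofHom _ (bijective_cotangent_liftBaseChange _ (flat_sameVars G G' h)
    (ker_eq_map _ (ker_le_of_isPushout G G' h)))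
  haveI := isIso_ofHom _ (bijective_cotangentSpace_sameVars G G' h)
  exact isIso_twoMap _ _ _ _ (bc_comm _)

omit [Algebra R' S'] [Algebra S S'] [Algebra R S'] [IsScalarTower R R' S'] [IsScalarTower R S S'] in
theorem lTensor_injective_of_flat_quotient (g : MvPolynomial ι R →+* MvPolynomial ι R')
    (hg : g = MvPolynomial.map (algebraMap R R')) [Module.Flat R S] :
    letI : Algebra (MvPolynomial ι R) (MvPolynomial ι R') := g.toAlgebra
    Function.Injective ((Submodule.subtype (RingHom.ker (MvPolynomial.aeval (R := R) G.val))).lTensor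
      (MvPolynomial ι R')) := by
  subst hg
  letI : Algebra (MvPolynomial ι R) (MvPolynomial ι R') := MvPolynomial.algebraMvPolynomial
  show Function.Injective ((Submodule.subtype (RingHom.ker (MvPolynomial.aeval (R := R) G.val))).lTensor (MvPolynomial ι R'))
  let P := MvPolynomial ι R
  let T := MvPolynomial ι R'
  let I : Ideal P := RingHom.ker (MvPolynomial.aeval (R := R) G.val)
  let i₀ : I →ₗ[R] P := I.subtype.restrictScalars R
  have h0 : Function.Injective (i₀.lTensor R') := by
    refine LinearMap.lTensor_injective_of_exact_of_flat (P := S) (MvPolynomial.aeval (R := R) G.val).toLinearMap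
      ?_ i₀ ?_ ?_ _
    · exact fun s => ⟨G.σ' s, G.aeval_val_σ' s⟩
    · exact Submodule.subtype_injective _
    · intro x
      exact ⟨fun hx => ⟨⟨x, hx⟩, rfl⟩, by rintro ⟨y, rfl⟩; exact y.2⟩
  haveI : Algebra.IsPushout R R' P T := inferInstance
  let e : R' ⊗[R] P ≃ₐ[R'] T := Algebra.IsPushout.equiv R R' P T
  let j : R' ⊗[R] I →ₗ[R] T ⊗[P] I := TensorProduct.lift
    (LinearMap.mk₂ R (fun c x => algebraMap R' T c ⊗ₜ[P] x)
      (fun c c' x => by rw [map_add, TensorProduct.add_tmul])
      (fun r c x => by rw [Algebra.smul_def, map_mul, ← IsScalarTower.algebraMap_apply, ← Algebra.smul_def,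
        TensorProduct.smul_tmul'])
      (fun c x y => TensorProduct.tmul_add _ _ _)
      (fun r c x => TensorProduct.tmul_smul _ _ _))
  have hj : Function.Surjective j := by
    intro z
    induction z using TensorProduct.induction_on with
    | zero => exact ⟨0, map_zero _⟩
    | add z z' hz hz' =>
      obtain ⟨w, rfl⟩ := hz
      obtain ⟨w', rfl⟩ := hz'
      exact ⟨w + w', map_add _ _ _⟩
    | tmul t x =>
      obtain ⟨w, rfl⟩ := e.surjective t
      induction w using TensorProduct.induction_on with
      | zero => exact ⟨0, by rw [map_zero, map_zero, TensorProduct.zero_tmul]⟩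
      | add w w' hw hw' =>
        obtain ⟨v, hv⟩ := hw
        obtain ⟨v', hv'⟩ := hw'
        exact ⟨v + v', by rw [map_add, hv, hv', map_add, TensorProduct.add_tmul]⟩
      | tmul c p =>
        refine ⟨c ⊗ₜ (p • x), ?_⟩
        show algebraMap R' T c ⊗ₜ[P] (p • x) = _
        rw [← TensorProduct.smul_tmul, Algebra.IsPushout.equiv_tmul, Algebra.smul_def, mul_comm]
  let k : R' ⊗[R] P →ₗ[R] T ⊗[P] P :=
    ((TensorProduct.rid P T).symm.toLinearMap.restrictScalars R) ∘ₗ e.toLinearMap.restrictScalars R
  have hk : Function.Injective k := (TensorProduct.rid P T).symm.injective.comp e.injective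
  have hjk : ∀ w, I.subtype.lTensor T (j w) = k (i₀.lTensor R' w) := fun w => by
    induction w using TensorProduct.induction_on with
    | zero => simp
    | add w w' hw hw' => simp only [map_add, hw, hw']
    | tmul c x =>
      show algebraMap R' T c ⊗ₜ[P] (x : P) = e (c ⊗ₜ (x : P)) ⊗ₜ[P] (1 : P)
      rw [show (x : P) = (x : P) • (1 : P) from (mul_one _).symm, ← TensorProduct.smul_tmul,
        Algebra.IsPushout.equiv_tmul, smul_eq_mul, mul_one, Algebra.smul_def, mul_comm]
  rw [injective_iff_map_eq_zero]
  intro z hz
  obtain ⟨w, rfl⟩ := hj z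
  rw [hjk] at hz
  rw [h0 (hk (hz.trans (map_zero k).symm) |>.trans (map_zero _).symm), map_zero]

/-- Base change of a presentation of a flat algebra. -/
theorem isIso_bcMap_sameVars_of_flat [Algebra.IsPushout R R' S S'] [Module.Flat R S] :
    IsIso (NLCx.bcMap (NLCx.sameVarsHom G G' h).toExtensionHom) := by
  have hk : (G.toExtension.ker : Ideal (MvPolynomial ι R)) = RingHom.ker (MvPolynomial.aeval (R := R) G.val) :=
    SetLike.ext fun y => by
      show algebraMap G.toExtension.Ring S y = 0 ↔ MvPolynomial.aeval G.val y = 0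
      rw [← G.algebraMap_apply]
      rfl
  have hinj := lTensor_injective_of_flat_quotient G _ (sameVars_toRingHom G G' h)
  rw [← hk] at hinj
  haveI := isIso_ofHom _ (bijective_cotangent_liftBaseChange_of_injective _ hinj
    (ker_eq_map _ (ker_le_of_isPushout G G' h)))
  haveI := isIso_ofHom _ (bijective_cotangentSpace_sameVars G G' h)
  exact isIso_twoMap _ _ _ _ (bc_comm _)

end SameVars

section Self

theorem surjective_aeval_of_isPushout [Algebra.IsPushout R R' S S'] :
    Function.Surjective (MvPolynomial.aeval (R := R') (fun s : S => algebraMap S S' s)) := by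
  intro y
  refine (Algebra.IsPushout.out (R := R) (S := R') (R' := S) (S' := S')).inductionOn
    (motive := fun y => ∃ x, MvPolynomial.aeval (R := R') (fun s : S => algebraMap S S' s) x = y) y ⟨0, map_zero _⟩
    (fun s => ⟨MvPolynomial.X s, MvPolynomial.aeval_X _ _⟩) ?_ ?_
  · rintro c _ ⟨x, rfl⟩
    exact ⟨c • x, map_smul _ _ _⟩
  · rintro _ _ ⟨x, rfl⟩ ⟨x', rfl⟩
    exact ⟨x + x', map_add _ _ _⟩

theorem surjective_bcH1Map_self [Algebra.IsPushout R R' S S'] :
    Function.Surjective (NLCx.bcH1Map
      ((Generators.self R S).defaultHom (Generators.self R' S')).toExtensionHom) := by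
  let G := Generators.self R S
  let H := Generators.self R' S'
  let G' : Generators R' S' S := Generators.ofSurjective (fun s => algebraMap S S' s) (surjective_aeval_of_isPushout (R := R))
  let a := (NLCx.sameVarsHom G G' fun _ => rfl).toExtensionHom
  let t := (G'.defaultHom H).toExtensionHom
  let p := (H.defaultHom G').toExtensionHom
  rintro ⟨y, hy⟩
  have hy0 : H.toExtension.cotangentComplex y = 0 := hy
  obtain ⟨⟨z, hz⟩, hzy⟩ := surjective_bcH1Map_sameVars G G' (fun _ => rfl) ⟨Extension.Cotangent.map p y, by
    show G'.toExtension.cotangentComplex (Extension.Cotangent.map p y) = 0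
    rw [← Extension.CotangentSpace.map_cotangentComplex, hy0, map_zero]⟩
  refine ⟨⟨z, hz⟩, Subtype.ext ?_⟩
  have hz0 : G.toExtension.cotangentComplex.baseChange S' z = 0 := hz
  let f := (G.defaultHom H).toExtensionHom
  show LinearMap.liftBaseChange S' (Extension.Cotangent.map f) z = y
  have h1 : LinearMap.liftBaseChange S' (Extension.Cotangent.map a) z = Extension.Cotangent.map p y :=
    congrArg Subtype.val hzy
  have h2 : LinearMap.liftBaseChange S' (Extension.Cotangent.map f) =
      LinearMap.liftBaseChange S' (f.sub (t.comp a)) ∘ₗ G.toExtension.cotangentComplex.baseChange S' +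
        Extension.Cotangent.map t ∘ₗ LinearMap.liftBaseChange S' (Extension.Cotangent.map a) := by
    ext x
    have := LinearMap.congr_fun (Extension.Cotangent.map_sub_map f (t.comp a)) x
    simp only [LinearMap.sub_apply, LinearMap.comp_apply, Extension.Cotangent.map_comp] at this
    simpa using congrArg Extension.Cotangent.val (sub_eq_iff_eq_add.1 this)
  rw [h2, LinearMap.add_apply, LinearMap.comp_apply, hz0, map_zero, zero_add, LinearMap.comp_apply, h1,
    CI2.cot_homotopic R' S' p t, hy0, map_zero, zero_add]

/-- Base change along a flat map, for the presentations on all elements. -/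
theorem exists_homotopyEquiv_of_isIso [Algebra.IsPushout R R' S S']
    (hiso : ∀ (G : Generators R S S) (G' : Generators R' S' S) (h : ∀ i, G'.val i = algebraMap S S' (G.val i)),
      IsIso (NLCx.bcMap (NLCx.sameVarsHom G G' h).toExtensionHom)) :
    ∃ e : HomotopyEquiv (NLCx.bcCx (Generators.self R S).toExtension S')
        (NLCx.cx (Generators.self R' S').toExtension),
      e.hom = NLCx.bcMapSelf R S R' S' := by
  let G := Generators.self R S
  let H := Generators.self R' S'
  let G' : Generators R' S' S := Generators.ofSurjective (fun s => algebraMap S S' s) (surjective_aeval_of_isPushout (R := R))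
  let a := (NLCx.sameVarsHom G G' fun _ => rfl).toExtensionHom
  let t := (G'.defaultHom H).toExtensionHom
  let p := (H.defaultHom G').toExtensionHom
  let f := (G.defaultHom H).toExtensionHom
  haveI : IsIso (bc a) := hiso G G' fun _ => rfl
  have wt : ModuleCat.ofHom (Extension.Cotangent.map t) ≫ ModuleCat.ofHom H.toExtension.cotangentComplex =
      ModuleCat.ofHom G'.toExtension.cotangentComplex ≫ ModuleCat.ofHom (Extension.CotangentSpace.map t) :=
    ModuleCat.hom_ext (LinearMap.ext fun x => (Extension.CotangentSpace.map_cotangentComplex t x).symm)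
  have wp : ModuleCat.ofHom (Extension.Cotangent.map p) ≫ ModuleCat.ofHom G'.toExtension.cotangentComplex =
      ModuleCat.ofHom H.toExtension.cotangentComplex ≫ ModuleCat.ofHom (Extension.CotangentSpace.map p) :=
    ModuleCat.hom_ext (LinearMap.ext fun x => (Extension.CotangentSpace.map_cotangentComplex p x).symm)
  let e₂ : HomotopyEquiv (CI2.two (ModuleCat.ofHom G'.toExtension.cotangentComplex))
      (CI2.two (ModuleCat.ofHom H.toExtension.cotangentComplex)) :=
    { hom := CI2.twoMap _ _ _ _ wt
      inv := CI2.twoMap _ _ _ _ wp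
      homotopyHomInvId := ((Homotopy.ofEq (CI2.twoMap_comp _ _ _ _ _ wt _ _ wp)).trans
        (CI2.twoHomotopy _ _ _ _ _ _ _ (by simp) (ModuleCat.ofHom ((p.comp t).sub (Extension.Hom.id _)))
          (ModuleCat.hom_ext (LinearMap.ext (CI2.cot_homotopic R' S' t p)))
          (ModuleCat.hom_ext (LinearMap.ext (CI2.cotSpace_homotopic R' S' t p))))).trans
        (Homotopy.ofEq (CI2.twoMap_id _))
      homotopyInvHomId := ((Homotopy.ofEq (CI2.twoMap_comp _ _ _ _ _ wp _ _ wt)).trans
        (CI2.twoHomotopy _ _ _ _ _ _ _ (by simp) (ModuleCat.ofHom ((t.comp p).sub (Extension.Hom.id _)))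
          (ModuleCat.hom_ext (LinearMap.ext (CI2.cot_homotopic R' S' p t)))
          (ModuleCat.hom_ext (LinearMap.ext (CI2.cotSpace_homotopic R' S' p t))))).trans
        (Homotopy.ofEq (CI2.twoMap_id _)) }
  let e := (HomotopyEquiv.ofIso (asIso (bc a))).trans e₂
  have hc : e.hom = bc (t.comp a) := by
    show bc a ≫ CI2.twoMap _ _ _ _ wt = _
    rw [bc, bc, CI2.twoMap_comp]
    congr 1
    · ext x
      simp [Extension.Cotangent.map_comp]
    · ext x
      simp [Extension.CotangentSpace.map_comp]
  have hh : Homotopy (bc f) e.hom := by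
    refine (CI2.twoHomotopy _ _ _ _ _ _ _ (bc_comm (t.comp a))
      (ModuleCat.ofHom (LinearMap.liftBaseChange S' (f.sub (t.comp a)))) ?_ ?_).trans (Homotopy.ofEq hc.symm)
    · ext x
      have := LinearMap.congr_fun (Extension.Cotangent.map_sub_map f (t.comp a)) x
      simp only [LinearMap.sub_apply, LinearMap.comp_apply] at this
      simpa using congrArg Extension.Cotangent.val (sub_eq_iff_eq_add.1 this)
    · ext x
      have := LinearMap.congr_fun (Extension.CotangentSpace.map_sub_map f (t.comp a)) x
      simpa using sub_eq_iff_eq_add.1 this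
  exact ⟨{ hom := bc f
           inv := e.inv
           homotopyHomInvId := (hh.compRight e.inv).trans e.homotopyHomInvId
           homotopyInvHomId := (hh.compLeft e.inv).trans e.homotopyInvHomId }, rfl⟩

theorem exists_homotopyEquiv_self [Algebra.IsPushout R R' S S'] [Module.Flat R R'] :
    ∃ e : HomotopyEquiv (NLCx.bcCx (Generators.self R S).toExtension S')
        (NLCx.cx (Generators.self R' S').toExtension),
      e.hom = NLCx.bcMapSelf R S R' S' :=
  exists_homotopyEquiv_of_isIso fun G G' h => isIso_bcMap_sameVars G G' h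

theorem quasiIso_bcMapSelf_of_flat [Algebra.IsPushout R R' S S'] [Module.Flat R S] :
    QuasiIso (NLCx.bcMapSelf R S R' S') := by
  obtain ⟨e, he⟩ := exists_homotopyEquiv_of_isIso (R := R) (S := S) (R' := R') (S' := S')
    fun G G' h => isIso_bcMap_sameVars_of_flat G G' h
  rw [← he]
  exact (HomologicalComplex.mem_quasiIso_iff _).1 (homotopyEquivalences_le_quasiIso _ _ _ ⟨e, rfl⟩)

end Self

end Groth.Agent.NLEtale28
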